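import Groth.Agent.SBTautLib.Exist
import Groth.Agent.S0086

/-! A scheme with a splitting is proper. -/

set_option autoImplicit false
set_option linter.style.haveILetI false
universe u

open CategoryTheory CategoryTheory.Limits AlgebraicGeometry

namespace SBTaut

theorem isProper_of_splitting {k : Type u} [Field k] {X : Scheme.{u}} {f : X ⟶ Spec (CommRingCat.of k)}
    {K : Type u} [Field K] [Algebra k K] {m : ℕ} (e : BrSev.Splitting f K m) : IsProper f := by
  haveI := Groth.Agent.S0086.result.{u}
  let g := Spec.map (CommRingCat.ofHom (algebraMap k K))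
  have hg : (@Surjective ⊓ @Flat ⊓ @QuasiCompact : MorphismProperty Scheme.{u}) g :=
    ⟨⟨⟨fun x => ⟨Classical.arbitrary _, Subsingleton.elim _ _⟩⟩,
      (HasRingHomProperty.Spec_iff (P := @Flat)).2 (RingHom.flat_algebraMap_iff.2 inferInstance)⟩, inferInstance⟩
  haveI : IsProper (CohB1.ProjSpace.toSpec m K) := (ProjDegLib.toSpec_isProper K m : IsProper (CohB1.ProjSpace.toSpec m K))
  refine MorphismProperty.of_pullback_snd_of_descendsAlong (P := @IsProper) hg ?_
  show IsProper (BrSev.bcTo f K)
  rw [← e.comm]
  infer_instance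

end SBTaut
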