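import Groth.Agent.SBTautLib.Pull
import Groth.Agent.SBTwLib.EndBC
import Groth.Agent.KSModLib.AbsSplit
import Groth.Agent.CurveVBLib.Basic
import Groth.Agent.CohCmpLib.HomLift

/-! The tautological bundle over a splitting field is a sum of copies of an invertible module. -/

set_option autoImplicit false
set_option linter.style.haveILetI false
set_option linter.unusedSectionVars false
universe u

noncomputable section

open CategoryTheory CategoryTheory.Limits AlgebraicGeometry TopologicalSpace Opposite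
open scoped TensorProduct
open W4c1astiltbs12 (pow)
open KFlatLib (pb)
open DevissLib (St)

namespace SBTaut

attribute [local instance] Abelian.hasFiniteBiproducts

/-- A module over a matrix algebra is a sum of copies of a direct summand. -/
theorem exists_iso_biproduct {C : Type*} [Category C] [Abelian C] {K : Type*} [Ring K] {n : ℕ} [NeZero n]
    {M : C} (μ : Matrix (Fin n) (Fin n) K →+* End M) :
    ∃ (L : C) (i : L ⟶ M) (q : M ⟶ L), i ≫ q = 𝟙 L ∧ Nonempty (M ≅ ⨁ fun _ : Fin n => L) := by
  classical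
  let E : Fin n → Fin n → (M ⟶ M) := fun a b => μ (Matrix.single a b 1)
  have hmul : ∀ a b c d, E c d ≫ E a b = if b = c then E a d else 0 := fun a b c d => by
    show μ (Matrix.single a b 1) * μ (Matrix.single c d 1) = _
    rw [← map_mul]
    split_ifs with h
    · subst h; rw [Matrix.single_mul_single_same, mul_one]
    · rw [Matrix.single_mul_single_of_ne (h := h), map_zero]
  have hsum : ∑ a, E a a = 𝟙 M := by
    show ∑ a, μ (Matrix.single a a 1) = (1 : End M)
    rw [← map_sum, Matrix.sum_single_one, map_one]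
  obtain ⟨L, i, q, hiq, hqi⟩ :=
    IsIdempotentComplete.idempotents_split M (E 0 0) (by rw [hmul, if_pos rfl])
  refine ⟨L, i, q, hiq, ⟨⟨biproduct.lift fun a => E 0 a ≫ q, biproduct.desc fun a => i ≫ E a 0, ?_, ?_⟩⟩⟩
  · rw [biproduct.lift_desc]
    refine Eq.trans (Finset.sum_congr rfl fun a _ => ?_) hsum
    rw [Category.assoc, reassoc_of% hqi, hmul, if_pos rfl, hmul, if_pos rfl]
  · refine biproduct.hom_ext' _ _ fun a => biproduct.hom_ext _ _ fun b => ?_
    simp only [Category.assoc, biproduct.lift_π, biproduct.ι_desc_assoc, Category.comp_id]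
    rw [← Category.assoc (E a 0), hmul]
    split_ifs with h
    · subst h
      rw [biproduct.ι_π_self, ← hqi, Category.assoc, hiq, Category.comp_id, hiq]
    · rw [biproduct.ι_π_ne _ (Ne.symm h), zero_comp, comp_zero]

/-- An algebra map to endomorphisms extends to the scalar extension. -/
theorem nonempty_algHom {k K : Type u} [Field k] [Field K] [Algebra k K] {A : Type u} [Ring A] [Algebra k A]
    {E : Type*} [Ring E] [Algebra K E] (g : A →+* E)
    (hg : ∀ r : k, g (algebraMap k A r) = algebraMap K E (algebraMap k K r)) : Nonempty (K ⊗[k] A →ₐ[K] E) := by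
  letI : Algebra k E := ((algebraMap K E).comp (algebraMap k K)).toAlgebra' fun r x => Algebra.commutes _ _
  haveI : IsScalarTower k K E := IsScalarTower.of_algebraMap_eq fun _ => rfl
  exact ⟨Algebra.TensorProduct.lift (Algebra.ofId K E) { g with commutes' := hg } fun x a => Algebra.commutes x _⟩

theorem finrank_stalk_of_frame {X : Scheme.{u}} {E : X.Modules} {m : ℕ} {W : X.Opens} {s : Fin m → Γ(E, W)}
    (hs : ProjFormLib.IsFrame E s) {x : X} (hx : x ∈ W) :
    Module.finrank (X.presheaf.stalk x) ((St x).obj E) = m :=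
  (LinearEquiv.ofBijective _ (hs x hx)).finrank_eq.symm.trans (Module.finrank_fin_fun _)

theorem rank_of_finrank {X : Scheme.{u}} {M : X.Modules} {n : ℕ} (hM : FlatMod.IsFinLocFree M)
    (h : ∀ x : X, Module.finrank (X.presheaf.stalk x) ((St x).obj M) = n) :
    FlatMod.IsFinLocFreeOfRank n M := fun x => by
  obtain ⟨U, m, hU, ⟨e⟩⟩ := hM x
  obtain ⟨e'⟩ := CurveVBLib.nonempty_stalk_pi_on e hU
  have : m = n := by rw [← h x]; exact ((e'.finrank_eq.trans (Module.finrank_fin_fun _))).symm
  exact this ▸ ⟨U, hU, ⟨e⟩⟩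

/-- A summand of a decomposition of a bundle of rank `n` into `n` copies is invertible. -/
theorem isInvertible_of_pow {X : Scheme.{u}} {n : ℕ} (hn : 0 < n) {M L : X.Modules}
    (hL : FlatMod.IsFinLocFree L) (e : M ≅ ⨁ fun _ : Fin n => L)
    (h : ∀ x : X, Module.finrank (X.presheaf.stalk x) ((St x).obj M) = n) : PicF.IsInvertible L := by
  have h1 : FlatMod.IsFinLocFreeOfRank 1 L := rank_of_finrank hL fun x => by
    obtain ⟨U, m, hU, ⟨e'⟩⟩ := hL x
    obtain ⟨t⟩ := CurveVBLib.nonempty_stalk_pi_on e' hU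
    let θ := ((St x).mapIso e ≪≫ (St x).mapBiproduct _ ≪≫ ModuleCat.biproductIsoPi _).toLinearEquiv
    have h2 := h x
    rw [(θ.trans (LinearEquiv.piCongrRight fun _ : Fin n => t)).finrank_eq, Module.finrank_pi_fintype] at h2
    simp only [Module.finrank_fin_fun, Finset.sum_const, Finset.card_univ, Fintype.card_fin, smul_eq_mul] at h2
    rw [t.finrank_eq, Module.finrank_fin_fun]
    exact Nat.eq_of_mul_eq_mul_left hn (h2.trans (mul_one n).symm)
  intro x
  obtain ⟨U, hU, ⟨e⟩⟩ := h1 x
  exact ⟨U, hU, ⟨e ≪≫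
    { hom := Limits.Sigma.desc fun _ => 𝟙 _
      inv := Limits.Sigma.ι (fun _ : Fin 1 => Coh.structureModule (U : Scheme.{u})) 0
      hom_inv_id := Limits.Sigma.hom_ext _ _ fun i => by fin_cases i; simp
      inv_hom_id := Limits.Sigma.ι_desc _ _ }⟩⟩

variable {k : Type u} [Field k] {A : Type u} [Ring A] [Algebra k A] {n : ℕ} {N : ℕ} (b : Module.Basis (Fin N) k A)
  {X : Scheme.{u}} {f : X ⟶ Spec (CommRingCat.of k)}

include b in
theorem finrank_of_isB (hN : N = n * n) (hn : 0 < n) {R : Type u} [CommRing R] [Algebra k R] (hR : IsField R)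
    (I : BrSev.SBSet k A (n * n - n) R) {m : ℕ} {v : Fin m → R ⊗[k] A} (h : IsB (idl I) v) : m = n := by
  letI : Field R := hR.toField
  haveI : Module.Finite k A := Module.Finite.of_basis b
  haveI : Module.Finite R (R ⊗[k] A) := Module.Finite.base_change k R A
  have h1 : Module.finrank R (R ⊗[k] A) = n * n := by
    rw [Module.finrank_baseChange, Module.finrank_eq_card_basis b, Fintype.card_fin, hN]
  have h2 : Module.finrank R ((R ⊗[k] A) ⧸ idl I) = n * n - n := by
    have h3 := I.1.rankAtStalk_eq ⟨⊥, Ideal.isPrime_bot⟩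
    rwa [Module.rankAtStalk_eq_finrank_of_free] at h3
  have h4 : Module.finrank R (idl I) = m := by
    rw [← h.1, finrank_span_eq_card (Fintype.linearIndependent_iffₛ.mpr fun f g hfg => congrFun (h.injective hfg)),
      Fintype.card_fin]
  have h5 := (idl I).finrank_quotient_add_finrank
  have h6 : n ≤ n * n := Nat.le_mul_of_pos_left n hn
  omega

variable (σ : BrSev.SBStr k A (n * n - n) f) {T : Scheme.{u}} (g : T ⟶ X)

theorem finrank_stalk_aux (hN : N = n * n) (hn : 0 < n) {t : T} {R' : CommRingCat.{u}} (hF : IsField R')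
    (y : Spec R' ⟶ T) (hmem : ∀ z, y z = t) {W : T.Opens} (ht : t ∈ W) {m : ℕ}
    {s : Fin m → Γ(FlatMod.freeMod T N, W)} (hs : IsTF b σ g W s) : m = n := by
  obtain ⟨ρ, hρ⟩ := Spec.map_surjective (y ≫ g ≫ f)
  letI : Algebra k R' := ρ.hom.toAlgebra
  have hy : IsPt (f := f) g (R := R') y := by
    unfold IsPt
    rw [Category.assoc]
    exact hρ.symm
  refine finrank_of_isB b hN hn hF _ (hs R' y hy fun z _ => ?_)
  show y z ∈ W
  rw [hmem]
  exact ht

theorem finrank_stalk_taut (hN : N = n * n) (hn : 0 < n) (t : T) :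
    Module.finrank (T.presheaf.stalk t) ((St t).obj (Taut b σ g)) = n := by
  obtain ⟨W, m, s, ht, hs⟩ := exists_isTF b σ g t
  rw [finrank_stalk_of_frame hs.isFrame ht]
  exact finrank_stalk_aux b σ g hN hn (R' := T.residueField t) (Semifield.toIsField (T.residueField t))
    (T.fromSpecResidueField t) (Scheme.fromSpecResidueField_apply t) ht hs

variable {K : Type u} [Field K] [Algebra k K] [IsProper f]

/-- Over a splitting field the tautological bundle is a sum of copies of an invertible module. -/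
theorem exists_pow_iso (sp : SBAutLib.Split k A n K) (hN : N = n * n) (hn : 0 < n) :
    ∃ L : (BrSev.bc f K).Modules, PicF.IsInvertible L ∧
      Nonempty (pb (BrSev.proj f K) (Taut b σ (𝟙 X)) ≅ pow L n) := by
  haveI : NeZero n := ⟨hn.ne'⟩
  letI : X.Over (Spec (CommRingCat.of k)) := ⟨f⟩
  letI : (BrSev.bc f K).Over (Spec (CommRingCat.of K)) := ⟨BrSev.bcTo f K⟩
  have hT : X ↘ Spec (CommRingCat.of k) = 𝟙 X ≫ f := (Category.id_comp f).symm
  let P := Scheme.Modules.pullback (BrSev.proj f K)
  let a := actHom b σ (𝟙 X) hT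
  let g : A →+* End (P.obj (Taut b σ (𝟙 X))) :=
    { toFun := fun x => P.map (a x)
      map_one' := by rw [map_one]; exact P.map_id _
      map_mul' := fun x y => by
        rw [map_mul]
        show P.map ((a y : Taut b σ (𝟙 X) ⟶ _) ≫ a x) = P.map (a y : Taut b σ (𝟙 X) ⟶ _) ≫ P.map (a x)
        exact P.map_comp _ _
      map_zero' := by rw [map_zero]; exact P.map_zero _ _
      map_add' := fun x y => by rw [map_add]; exact P.map_add }
  obtain ⟨ρ⟩ := nonempty_algHom (k := k) (K := K) g fun r => by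
    show P.map (a (algebraMap k A r)) = _
    rw [AlgHom.commutes, Algebra.algebraMap_eq_smul_one, Algebra.algebraMap_eq_smul_one]
    show P.map (r • 𝟙 (Taut b σ (𝟙 X))) = algebraMap k K r • 𝟙 (P.obj (Taut b σ (𝟙 X)))
    exact (SBTw.map_smul' (KSMod.bcSq f K) rfl rfl r (𝟙 (Taut b σ (𝟙 X)))).trans
      (congrArg (algebraMap k K r • ·) (P.map_id _))
  obtain ⟨L, i, q, hiq, ⟨e⟩⟩ := exists_iso_biproduct (ρ.toRingHom.comp sp.e.symm.toAlgHom.toRingHom)
  obtain ⟨e0⟩ := nonempty_pullIso b σ (𝟙 X) (BrSev.proj f K)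
  have hfl := CohCmpLib.isFinLocFree_pb (BrSev.proj f K) (isFinLocFree_taut b σ (𝟙 X))
  have hL := KSMod.isFinLocFree_of_retract i q hiq hfl
  refine ⟨L, isInvertible_of_pow hn hL (e0.symm ≪≫ e) fun x => finrank_stalk_taut b σ _ hN hn x,
    ⟨e ≪≫ biproduct.isoCoproduct _⟩⟩

end SBTaut
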