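import Groth.Agent.SBTautLib.Index
import Groth.Agent.CohCmpLib.FrameTools
import Groth.Agent.CSALib.Power

/-! Invertibility and arithmetic of indices. -/

set_option autoImplicit false
set_option linter.style.haveILetI false
set_option linter.unusedSectionVars false
universe u

noncomputable section

open CategoryTheory CategoryTheory.Limits AlgebraicGeometry
open scoped TensorProduct
open W4c1astiltbs12 (pow)
open KFlatLib (pb)
open DevissLib (St)

namespace SBTaut

theorem finrank_stalk_invertible {X : Scheme.{u}} {L : X.Modules} (hL : PicF.IsInvertible L) (x : X) :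
    Module.finrank (X.presheaf.stalk x) ((St x).obj L) = 1 := by
  obtain ⟨U, hU, ⟨e⟩⟩ := hL x
  haveI : Nonempty (Fin 1) := ⟨0⟩
  obtain ⟨t⟩ := CurveVBLib.nonempty_stalk_pi_on
    (e ≪≫ (coproductUniqueIso fun _ : Fin 1 => Coh.structureModule (U : Scheme.{u})).symm) hU
  rw [t.finrank_eq, Module.finrank_fin_fun]

/-- A bundle which becomes invertible after a surjective base change is invertible. -/
theorem isInvertible_of_pb {X Z : Scheme.{u}} (g : Z ⟶ X) [Surjective g] {W : X.Modules}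
    (hW : FlatMod.IsFinLocFree W) (h : PicF.IsInvertible (pb g W)) : PicF.IsInvertible W :=
  isInvertible_of_pow (M := W) one_pos hW (biproductUniqueIso (fun _ : Fin 1 => W)).symm fun x => by
    obtain ⟨z, rfl⟩ := g.surjective x
    obtain ⟨U, m, hU, ⟨e⟩⟩ := hW (g z)
    obtain ⟨t⟩ := CurveVBLib.nonempty_stalk_pi_on e hU
    letI := (g.stalkMap z).hom.toAlgebra
    obtain ⟨θ, -⟩ := CohCmpLib.exists_stalkPullEquiv g W z
    have h1 := finrank_stalk_invertible h z
    rw [show Module.finrank (Z.presheaf.stalk z) ((St z).obj (pb g W)) = _ from θ.finrank_eq.symm] at h1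
    haveI : Module.Free (X.presheaf.stalk (g z)) ((St (g z)).obj W) := Module.Free.of_equiv t.symm
    exact (Module.finrank_baseChange (R := Z.presheaf.stalk z)).symm.trans h1

theorem isInvertible_of_isTwPow_one {k : Type u} [Field k] {X : Scheme.{u}} {f : X ⟶ Spec (CommRingCat.of k)}
    {K : Type u} [Field K] [Algebra k K] {m : ℕ} (e : BrSev.Splitting f K m) {j : ℤ} {W : X.Modules}
    (hW : FlatMod.IsFinLocFree W) (hWt : BrSev.IsTwPow e j 1 W) : PicF.IsInvertible W := by
  haveI : Nonempty (Fin 1) := ⟨0⟩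
  haveI : Surjective (Spec.map (CommRingCat.ofHom (algebraMap k K))) :=
    ⟨fun x => ⟨Classical.arbitrary _, Subsingleton.elim _ _⟩⟩
  refine isInvertible_of_pb (BrSev.proj f K) hW ?_
  intro x
  obtain ⟨U, hU, ⟨u⟩⟩ := KSMod.isInvertible_twist e j x
  exact ⟨U, hU, ⟨(Scheme.Modules.restrictFunctor U.ι).mapIso (hWt.some ≪≫ coproductUniqueIso _) ≪≫ u⟩⟩

variable {k : Type u} [Field k]

theorem ind_zpow (z : CSALib.Br k) (j : ℤ) : CSALib.ind (z ^ j) = CSALib.ind (z ^ j.natAbs) := by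
  rcases Int.natAbs_eq j with h | h <;> conv_lhs => rw [h]
  · rw [zpow_natCast]
  · rw [zpow_neg, zpow_natCast, SBTw.ind_inv]

theorem factorization_choose_prime_pow_le {p q a : ℕ} (hq : q.Prime) (hp : 0 < p) (h : q ^ a ∣ p) :
    (p.choose (q ^ a)).factorization q ≤ p.factorization q - a := by
  have hle : q ^ a ≤ p := Nat.le_of_dvd hp h
  rw [Nat.factorization_choose hq hle (Nat.lt_succ_self (Nat.log q p))]
  refine (Finset.card_le_card (t := Finset.Ioc a (p.factorization q)) fun i hi => ?_).trans (Nat.card_Ioc _ _).le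
  simp only [Finset.mem_filter, Finset.mem_Ico] at hi
  rw [Finset.mem_Ioc]
  by_contra hcon
  have hqi : 0 < q ^ i := pow_pos hq.pos i
  rcases le_or_gt i a with hia | hia
  · have h1 : q ^ a % q ^ i = 0 := Nat.mod_eq_zero_of_dvd (pow_dvd_pow q hia)
    have h2 : (p - q ^ a) % q ^ i = 0 :=
      Nat.mod_eq_zero_of_dvd (Nat.dvd_sub ((pow_dvd_pow q hia).trans h) (pow_dvd_pow q hia))
    omega
  · have hiv : p.factorization q < i := by omega
    have hlt : q ^ a < q ^ i := Nat.pow_lt_pow_right hq.one_lt hia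
    have hr0 : p % q ^ i ≠ 0 := fun h0 =>
      absurd ((hq.pow_dvd_iff_le_factorization hp.ne').1 (Nat.dvd_of_mod_eq_zero h0)) (by omega)
    have hr1 : q ^ a ≤ p % q ^ i :=
      Nat.le_of_dvd (Nat.pos_of_ne_zero hr0) ((Nat.dvd_mod_iff (pow_dvd_pow q hia.le)).2 h)
    have h1 : q ^ a % q ^ i = q ^ a := Nat.mod_eq_of_lt hlt
    have hr2 : p % q ^ i < q ^ i := Nat.mod_lt _ hqi
    have h2 : (p - q ^ a) % q ^ i = p % q ^ i - q ^ a := by
      have e : p - q ^ a = q ^ i * (p / q ^ i) + (p % q ^ i - q ^ a) := by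
        have := Nat.div_add_mod p (q ^ i); omega
      rw [e, Nat.mul_add_mod, Nat.mod_eq_of_lt]; omega
    omega

theorem ind_pow_gcd (z : CSALib.Br k) {p : ℕ} (hp : orderOf z = p) (hi : CSALib.ind z = p) (i : ℕ) :
    CSALib.ind (z ^ i) = p / Nat.gcd p i := by
  have hp0 : 0 < p := hp ▸ CSALib.orderOf_pos' z
  let g := Nat.gcd p i
  have hg0 : 0 < g := Nat.gcd_pos_of_pos_left i hp0
  have hlow : p / g ∣ CSALib.ind (z ^ i) := by
    have h := CSALib.orderOf_dvd_ind (z ^ i)
    rwa [(orderOf_pos_iff.1 (CSALib.orderOf_pos' z)).orderOf_pow, hp] at h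
  refine Nat.dvd_antisymm ?_ hlow
  have hstep : CSALib.ind (z ^ i) ∣ CSALib.ind (z ^ g) := by
    obtain ⟨c, hc⟩ := Nat.gcd_dvd_right p i
    conv_lhs => rw [hc, pow_mul]
    exact CSALib.ind_pow_dvd _ c
  refine hstep.trans ?_
  have hgp : g ∣ p := Nat.gcd_dvd_left p i
  have hpg : 0 < p / g := Nat.div_pos (Nat.le_of_dvd hp0 hgp) hg0
  have hne : CSALib.ind (z ^ g) ≠ 0 := (CSALib.ind_pos _).ne'
  rw [← Nat.factorization_le_iff_dvd hne hpg.ne']
  intro q
  by_cases hq : q.Prime
  swap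
  · simp [Nat.factorization_eq_zero_of_not_prime _ hq]
  rw [Nat.factorization_div hgp, Finsupp.tsub_apply]
  set a := g.factorization q
  obtain ⟨c, hc⟩ := Nat.ordProj_dvd g q
  have h1 : CSALib.ind (z ^ g) ∣ CSALib.ind (z ^ (q ^ a)) := by
    conv_lhs => rw [hc, pow_mul]
    exact CSALib.ind_pow_dvd _ c
  have hqa : q ^ a ∣ p := (Nat.ordProj_dvd g q).trans hgp
  have h2 : CSALib.ind (z ^ g) ∣ p.choose (q ^ a) := h1.trans (hi ▸ CSALib.ind_pow_dvd_choose z (q ^ a))
  have hch : p.choose (q ^ a) ≠ 0 := (Nat.choose_pos (Nat.le_of_dvd hp0 hqa)).ne'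
  refine ((Nat.factorization_le_iff_dvd hne hch).2 h2 q).trans ?_
  exact factorization_choose_prime_pow_le hq hp0 hqa

end SBTaut
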