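import Groth.Agent.SBTautLib.Main

/-! The multiplicities are indices of powers of the class of the algebra. -/

set_option autoImplicit false
set_option linter.style.haveILetI false
set_option linter.unusedSectionVars false
universe u

noncomputable section

open CategoryTheory CategoryTheory.Limits AlgebraicGeometry
open scoped TensorProduct
open W4c1astiltbs12 (pow)
open KFlatLib (pb)

namespace SBTaut

attribute [local instance] Abelian.hasFiniteBiproducts

theorem isCoh_tensor {X : Scheme.{u}} {W W' : X.Modules} (hW : Coh.IsCoh W) (hW' : Coh.IsCoh W') :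
    Coh.IsCoh (CohB1.tensorMod W W') := by
  haveI := hW.1
  haveI := hW'.1
  exact ⟨(Groth.Agent.S2297.result W W').1, (Groth.Agent.S2297.result W W').2 hW.2 hW'.2⟩

theorem twist_trivial_zero {K : Type u} [Field K] (j : ℤ) :
    Nonempty (Twist.twistProjSpace 0 K j ≅ Twist.twistProjSpace 0 K 0) := by
  let s : Γ(Twist.twistProjSpace 0 K 1, ⊤) := Twist.globalOf (CohB1.polyGrading 0 K)
    ⟨MvPolynomial.X 0, MvPolynomial.isHomogeneous_X K 0⟩
  have htop : QCohLib.stdOpen 0 K 0 = ⊤ := by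
    rw [← QCohLib.iSup_stdOpen 0 K]
    exact le_antisymm (le_iSup (QCohLib.stdOpen 0 K) 0) (iSup_le fun i => by rw [Fin.fin_one_eq_zero i])
  have hs : ∀ x : CohB1.ProjSpace 0 K, AmpleLib.GenAt (Twist.twistProjSpace 0 K 1) s
      (show x ∈ (⊤ : (CohB1.ProjSpace 0 K).Opens) from trivial) := fun x => by
    have hx : x ∈ QCohLib.stdOpen 0 K 0 := by rw [htop]; trivial
    have h := (TwistLib.globalOf_genOn (CohB1.polyGrading 0 K) (MvPolynomial.isHomogeneous_X K (0 : Fin 1))).genAt hx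
    exact (AmpleLib.genAt_res _ _ hx).1 h
  obtain ⟨u⟩ := PicPnLib.nonempty_iso_of_genAt s hs
  obtain ⟨z⟩ := PicPnLib.twist_zero 0 K
  obtain ⟨t⟩ := PicPnLib.nonempty_iso_family (fun a => Twist.twistProjSpace 0 K a)
    (fun _ => Coh.structureModule (CohB1.ProjSpace 0 K)) (PicPnLib.twist_add 0 K) ⟨z⟩
    (fun _ _ => ⟨HilbPolyLib.unitLeft _⟩) ⟨Iso.refl _⟩ ⟨u⟩ j
  exact ⟨t ≪≫ z.symm⟩

variable {k : Type u} [Field k] {A : Type u} [Ring A] [Algebra k A] [Algebra.IsCentral k A] [IsSimpleRing A]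
  [Module.Finite k A]
  {m : ℕ} (hA : Module.finrank k A = (m + 1) * (m + 1))
  {X : Scheme.{u}} {f : X ⟶ Spec (CommRingCat.of k)} [IsProper f]
  (σ : BrSev.SBStr k A ((m + 1) * (m + 1) - (m + 1)) f)
  {N : ℕ} (b : Module.Basis (Fin N) k A) (hN : N = (m + 1) * (m + 1))
  {K : Type u} [Field K] [Algebra k K] [IsAlgClosed K] (e : BrSev.Splitting f K m)
  [X.Over (Spec (CommRingCat.of k))] (hX : X ↘ Spec (CommRingCat.of k) = f)

theorem isTwPow_zero : BrSev.IsTwPow e 0 1 (Coh.structureModule X) := by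
  haveI : Nonempty (Fin 1) := ⟨0⟩
  exact ⟨KFlatLib.pullUnitIso (BrSev.proj f K) ≪≫ (KFlatLib.pullUnitIso e.iso.hom).symm ≪≫
    (Scheme.Modules.pullback e.iso.hom).mapIso (PicPnLib.twist_zero (n := m) (R := K)).some.symm ≪≫
    (coproductUniqueIso fun _ : Fin 1 => e.twist 0).symm⟩

include hA hN hX in
/-- The class of the tautological bundle is the class of the algebra. -/
theorem cls_taut {j : ℤ} (ht : BrSev.IsTwPow e j (m + 1) (Taut b σ (𝟙 X))) :
    SBTw.cls k (Taut b σ (𝟙 X)) = CSALib.cl k A := by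
  haveI : IsProper (X ↘ Spec (CommRingCat.of k)) := hX ▸ ‹IsProper f›
  haveI := CurvLib.isNoetherian k (X := X)
  have hc := Groth.Agent.PerfLib.isCoh_of_isFinLocFree (isFinLocFree_taut b σ (𝟙 X))
  obtain ⟨h1, h2, h3, h4⟩ := SBTw.end_twPow e hX hc m.succ_pos ht
  have hT : X ↘ Spec (CommRingCat.of k) = 𝟙 X ≫ f := hX.trans (Category.id_comp f).symm
  rw [SBTw.cls_eq]
  exact (CSALib.cl_congr (AlgEquiv.ofBijective (actHom b σ (𝟙 X) hT)
    (CSALib.bijective_algHom _ (hA.trans h3.symm)))).symm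

include hA hN hX in
/-- The tensor powers of the tautological bundle. -/
theorem cls_pow {j : ℤ} (ht : BrSev.IsTwPow e j (m + 1) (Taut b σ (𝟙 X))) (i : ℕ) :
    Coh.IsCoh (CohB1.tensorPow (Taut b σ (𝟙 X)) i) ∧
      BrSev.IsTwPow e (i * j) ((m + 1) ^ i) (CohB1.tensorPow (Taut b σ (𝟙 X)) i) ∧
      SBTw.cls k (CohB1.tensorPow (Taut b σ (𝟙 X)) i) = CSALib.cl k A ^ i := by
  haveI : IsProper (X ↘ Spec (CommRingCat.of k)) := hX ▸ ‹IsProper f›
  haveI := CurvLib.isNoetherian k (X := X)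
  have hc := Groth.Agent.PerfLib.isCoh_of_isFinLocFree (isFinLocFree_taut b σ (𝟙 X))
  induction i with
  | zero =>
    have hO : Coh.IsCoh (Coh.structureModule X) := Groth.Agent.PerfLib.isCoh_of_isFinLocFree
      (AmpleDevLib.isFinLocFree_of_isInvertible CurvLib.isInvertible_structureModule)
    refine ⟨hO, ?_, ?_⟩
    · simp only [CharP.cast_eq_zero, zero_mul, pow_zero]
      exact isTwPow_zero e
    · rw [pow_zero]
      exact SBTw.cl_twPow_zero e hX hO one_pos (isTwPow_zero e)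
  | succ i ih =>
    obtain ⟨ih1, ih2, ih3⟩ := ih
    refine ⟨isCoh_tensor ih1 hc, ?_, ?_⟩
    · rw [pow_succ, show ((i + 1 : ℕ) : ℤ) * j = i * j + j by push_cast; ring]
      exact SBTw.isTwPow_tensor ih2 ht
    · show SBTw.cls k (CohB1.tensorMod _ _) = _
      rw [SBTw.cl_tensor e hX ih1 hc (pow_pos m.succ_pos i) m.succ_pos ih2 ht, ih3,
        cls_taut hA σ b hN e hX ht, pow_succ]

include hA hN hX σ b in
/-- The index of the class of an isotypical bundle. -/
theorem ind_cls {j : ℤ} {r : ℕ} {W : X.Modules} (hW : Coh.IsCoh W) (hr : 0 < r) (hWt : BrSev.IsTwPow e j r W)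
    (hex : ∃ (t : ℕ) (V : X.Modules), 0 < t ∧ Coh.IsCoh V ∧ BrSev.IsTwPow e (-j) t V) :
    CSALib.ind (SBTw.cls k W) = CSALib.ind (CSALib.cl k A ^ j.natAbs) := by
  obtain ⟨j₀, ht, hj₀⟩ := exists_type hA σ b hN e
  obtain ⟨t, V, htpos, hV, hVt⟩ := hex
  by_cases hm : m = 0
  · subst hm
    have hA1 : CSALib.cl k A = 1 := by
      rw [CSALib.one_def]
      exact (CSALib.cl_congr (AlgEquiv.ofBijective (Algebra.ofId k A)
        (CSALib.bijective_algHom _ (by rw [Module.finrank_self, hA])))).symm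
    have hW0 : SBTw.cls k W = 1 := by
      obtain ⟨u⟩ := twist_trivial_zero (K := K) j
      exact SBTw.cl_twPow_zero e hX hW hr
        ⟨hWt.some ≪≫ Sigma.mapIso fun _ => (Scheme.Modules.pullback e.iso.hom).mapIso u⟩
    rw [hW0, hA1, one_pow]
  obtain ⟨hP, hPt, hPc⟩ := cls_pow hA σ b hN e hX ht j.natAbs
  have h1 := hj₀ (by omega)
  rcases (show (j.natAbs : ℤ) * j₀ = j ∨ (j.natAbs : ℤ) * j₀ = -j by
    rcases Int.natAbs_eq j₀ with h | h <;> rw [h1] at h <;> simp only [h, Nat.cast_one, mul_one, mul_neg] <;> omega)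
    with h | h
  · rw [h] at hPt
    rw [SBTw.cl_unique e hX hW hP hV hr (pow_pos m.succ_pos _) htpos hWt hPt hVt, hPc]
  · rw [h] at hPt
    have h2 := SBTw.isTwPow_tensor hWt hPt
    rw [add_neg_cancel] at h2
    have h3 := SBTw.cl_twPow_zero e hX (isCoh_tensor hW hP) (Nat.mul_pos hr (pow_pos m.succ_pos _)) h2
    rw [SBTw.cl_tensor e hX hW hP hr (pow_pos m.succ_pos _) hWt hPt, hPc] at h3
    rw [eq_inv_of_mul_eq_one_left h3, SBTw.ind_inv]

end SBTaut

namespace SBTaut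

/-- The multiplicity of an indecomposable isotypical bundle is the index of the power of the class. -/
theorem mult_eq_ind {k : Type u} [Field k] {A : Type u} [Ring A] [Algebra k A] [Algebra.IsCentral k A]
    [IsSimpleRing A] [Module.Finite k A] {n : ℕ} (hn : 0 < n) (hA : Module.finrank k A = n * n)
    {X : Scheme.{u}} {f : X ⟶ Spec (CommRingCat.of k)} [IsProper f] (hX : BrSev.IsSBOf k A (n * n - n) f)
    {K : Type u} [Field K] [Algebra k K] [IsAlgClosure k K] (e : BrSev.Splitting f K (n - 1))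
    {W : X.Modules} (hW : FlatMod.IsFinLocFree W)
    (hWi : ¬ IsZero W ∧ ∀ M₁ M₂ : X.Modules, Nonempty (W ≅ M₁ ⊞ M₂) → IsZero M₁ ∨ IsZero M₂)
    {j : ℤ} {r : ℕ} (hr : 0 < r) (hWt : BrSev.IsTwPow e j r W) :
    CSALib.ind (CSALib.cl k A ^ j.natAbs) = r := by
  obtain ⟨m, rfl⟩ := Nat.exists_eq_succ_of_ne_zero hn.ne'
  haveI : IsAlgClosed K := IsAlgClosure.isAlgClosed k
  letI : X.Over (Spec (CommRingCat.of k)) := ⟨f⟩
  haveI : IsProper (X ↘ Spec (CommRingCat.of k)) := ‹IsProper f›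
  haveI := CurvLib.isNoetherian k (X := X)
  obtain ⟨d, hd, hM⟩ := KSMod.exists_twPow_of_isSBOf A hn hA hX e
  obtain ⟨V, hV, hVt⟩ := hM (-j)
  have hWc := Groth.Agent.PerfLib.isCoh_of_isFinLocFree hW
  obtain ⟨σ⟩ := hX
  have h := ind_cls (m := m) hA σ (Module.finBasisOfFinrankEq k A hA) rfl (K := K) e rfl hWc hr hWt
    ⟨d, V, hd, Groth.Agent.PerfLib.isCoh_of_isFinLocFree hV, hVt⟩
  rw [← h]
  exact SBTw.ind_cl_indec e rfl hWc hWi hr hWt

end SBTaut
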