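import Groth.Agent.SBTautLib.Descent

/-! Existence of indecomposable bundles of each type and descent of twisting sheaves. -/

set_option autoImplicit false
set_option linter.style.haveILetI false
set_option linter.unusedSectionVars false
universe u

noncomputable section

open CategoryTheory CategoryTheory.Limits AlgebraicGeometry
open scoped TensorProduct
open W4c1astiltbs12 (pow)
open KFlatLib (pb)

namespace SBTaut

attribute [local instance] Abelian.hasFiniteBiproducts

variable {k : Type u} [Field k] {A : Type u} [Ring A] [Algebra k A] [Algebra.IsCentral k A] [IsSimpleRing A]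
  [Module.Finite k A] {n : ℕ} (hn : 0 < n) (hA : Module.finrank k A = n * n)
  {X : Scheme.{u}} {f : X ⟶ Spec (CommRingCat.of k)} [IsProper f] (hX : BrSev.IsSBOf k A (n * n - n) f)
  {K : Type u} [Field K] [Algebra k K] [IsAlgClosure k K] (e : BrSev.Splitting f K (n - 1))

include hn hA hX in
/-- Every twisting type is the type of an indecomposable bundle. -/
theorem exists_indec (j : ℤ) : ∃ (W : X.Modules) (r : ℕ), FlatMod.IsFinLocFree W ∧ KSMod.Indec W ∧ 0 < r ∧
    BrSev.IsTwPow e j r W := by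
  haveI : IsAlgClosed K := IsAlgClosure.isAlgClosed k
  letI : X.Over (Spec (CommRingCat.of k)) := ⟨f⟩
  haveI : IsProper (X ↘ Spec (CommRingCat.of k)) := ‹IsProper f›
  haveI := CurvLib.isNoetherian k (X := X)
  letI : (BrSev.bc f K).Over (Spec (CommRingCat.of K)) := ⟨BrSev.bcTo f K⟩
  haveI : IsProper (BrSev.bc f K ↘ Spec (CommRingCat.of K)) :=
    inferInstanceAs (IsProper (pullback.snd f (Spec.map (CommRingCat.ofHom (algebraMap k K)))))
  obtain ⟨d, hd, hM⟩ := KSMod.exists_twPow_of_isSBOf A hn hA hX e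
  obtain ⟨M, hMf, ⟨t⟩⟩ := hM j
  have hMc := Groth.Agent.PerfLib.isCoh_of_isFinLocFree hMf
  haveI := KSMod.finite_hom (k := k) hMc hMc
  obtain ⟨s, Ms, hMi, -, ⟨eM⟩⟩ := KSMod.exists_decomp (k := k) M
  rcases Nat.eq_zero_or_pos s with hs | hs
  · exfalso
    subst hs
    have hZ : IsZero (BrSev.bcMod f K M) :=
      (Scheme.Modules.pullback (BrSev.proj f K)).map_isZero ((KSMod.isZero_of_isEmpty Ms).of_iso eM)
    obtain ⟨i⟩ : Nonempty (Fin d) := ⟨⟨0, hd⟩⟩
    refine (KSMod.indec_twist e j).1 ((IsZero.iff_id_eq_zero _).2 ?_)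
    have h := (hZ.of_iso t.symm).eq_of_src (Sigma.desc fun _ : Fin d => 𝟙 (e.twist j)) 0
    have h2 := congrArg (fun z => Sigma.ι (fun _ : Fin d => e.twist j) i ≫ z) h
    simpa using h2
  · let i : Fin s := ⟨0, hs⟩
    have hr : (biproduct.ι Ms i ≫ eM.inv) ≫ (eM.hom ≫ biproduct.π Ms i) = 𝟙 _ := by simp
    obtain ⟨Z, ⟨g⟩⟩ := KSMod.exists_biprod_of_retract _ _ hr
    let P := Scheme.Modules.pullback (BrSev.proj f K)
    haveI : PreservesBinaryBiproducts P := preservesBinaryBiproducts_of_preservesBinaryCoproducts P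
    haveI := hMc.1
    haveI := (Groth.Agent.PerfLib.isCoh_of_isFinLocFree (KSMod.isFinLocFree_of_retract _ _ hr hMf)).1
    obtain ⟨r, ⟨u⟩⟩ := KSMod.summand_pow (k := K) (ConsLib.isCoh_pullback (BrSev.proj f K) hMc) (KSMod.indec_twist e j)
      (P.mapIso g ≪≫ P.mapBiprod _ _) t
    refine ⟨Ms i, r, KSMod.isFinLocFree_of_retract _ _ hr hMf, hMi i, Nat.pos_of_ne_zero fun h0 => ?_, ⟨u⟩⟩
    subst h0
    exact (hMi i).1 (KSMod.isZero_of_isZero_pb (KSMod.bcSq f K) ((KSMod.isZero_pow_zero (e.twist j)).of_iso u))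

include hn hA hX in
/-- An invertible module of type `j` exists exactly when the class power is trivial. -/
theorem exists_invertible_iff (j : ℤ) :
    (∃ L : X.Modules, PicF.IsInvertible L ∧ BrSev.IsTwPow e j 1 L) ↔ CSALib.cl k A ^ j.natAbs = 1 := by
  haveI : IsAlgClosed K := IsAlgClosure.isAlgClosed k
  constructor
  · rintro ⟨L, hL, hLt⟩
    letI : X.Over (Spec (CommRingCat.of k)) := ⟨f⟩
    haveI : IsProper (X ↘ Spec (CommRingCat.of k)) := ‹IsProper f›
    haveI := CurvLib.isNoetherian k (X := X)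
    have hLc := Groth.Agent.PerfLib.isCoh_of_isFinLocFree (AmpleDevLib.isFinLocFree_of_isInvertible hL)
    obtain ⟨h1, h2, h3, h4⟩ := SBTw.end_twPow e rfl hLc one_pos hLt
    have hcls : SBTw.cls k L = 1 := by
      rw [SBTw.cls_eq, CSALib.one_def]
      exact (CSALib.cl_congr (AlgEquiv.ofBijective (Algebra.ofId k (End L))
        (CSALib.bijective_algHom _ (by rw [Module.finrank_self, h3, one_mul])))).symm
    obtain ⟨m, rfl⟩ := Nat.exists_eq_succ_of_ne_zero hn.ne'
    obtain ⟨σ⟩ := id hX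
    obtain ⟨d, hd, hM⟩ := KSMod.exists_twPow_of_isSBOf A hn hA hX e
    obtain ⟨V, hV, hVt⟩ := hM (-j)
    have h := ind_cls (m := m) hA σ (Module.finBasisOfFinrankEq k A hA) rfl e rfl hLc one_pos hLt
      ⟨d, V, hd, Groth.Agent.PerfLib.isCoh_of_isFinLocFree hV, hVt⟩
    rw [hcls, CSALib.ind_eq_one_iff.2 rfl] at h
    exact CSALib.ind_eq_one_iff.1 h.symm
  · intro h
    obtain ⟨W, r, hW, hWi, hr, hWt⟩ := exists_indec hn hA hX e j
    have h1 := mult_eq_ind hn hA hX e hW hWi hr hWt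
    rw [h, CSALib.ind_eq_one_iff.2 rfl] at h1
    subst h1
    exact ⟨W, isInvertible_of_isTwPow_one e hW hWt, hWt⟩

variable {F : Type u} [Field F] [Algebra k F] [FiniteDimensional k F] [IsGalois k F]

include hn hA hX in
/-- Descent of twisting sheaves from a Galois splitting field. -/
theorem exists_invertible_iff_galois (e' : BrSev.Splitting f F (n - 1)) (j : ℤ) :
    (∃ L : X.Modules, PicF.IsInvertible L ∧ BrSev.IsTwPow e' j 1 L) ↔ CSALib.cl k A ^ j.natAbs = 1 := by
  let K := AlgebraicClosure k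
  obtain ⟨n', hn', ⟨eK⟩⟩ := CSALib.exists_matrix_of_isSepClosed (k := K) (K ⊗[k] A)
  have hn'' : n' = n := by
    have h := eK.toLinearEquiv.finrank_eq
    rw [Module.finrank_baseChange, hA, Module.finrank_matrix, Fintype.card_fin, Module.finrank_self, mul_one] at h
    exact (Nat.mul_self_inj.1 h).symm
  subst hn''
  obtain ⟨σ⟩ := id hX
  obtain ⟨e⟩ := SBSplitLib.nonempty_splitting f (⟨eK⟩ : SBAutLib.Split k A n' K) hA hn σ
  let ι : F →ₐ[k] K := IsAlgClosed.lift
  letI : Algebra F K := ι.toRingHom.toAlgebra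
  haveI : IsScalarTower k F K := IsScalarTower.of_algebraMap_eq fun x => (ι.commutes x).symm
  haveI : Nonempty (Fin 1) := ⟨0⟩
  rw [← exists_invertible_iff hn hA hX e j]
  let up : ∀ (L : X.Modules), pb (KSMod.bcUp f F K) (BrSev.bcMod f F L) ≅ BrSev.bcMod f K L := fun L =>
    (Scheme.Modules.pullbackComp (KSMod.bcUp f F K) (BrSev.proj f F)).app L ≪≫
      (Scheme.Modules.pullbackCongr (show KSMod.bcUp f F K ≫ BrSev.proj f F = BrSev.proj f K from
        pullback.lift_fst _ _ _)).app L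
  refine exists_congr fun L => and_congr_right fun hL => ⟨fun ⟨t⟩ => ?_, fun ⟨t⟩ => ?_⟩
  · obtain ⟨c⟩ := KSMod.pullback_twist_bcUp e e' j
    exact ⟨(up L).symm ≪≫ (Scheme.Modules.pullback _).mapIso (t ≪≫ coproductUniqueIso _) ≪≫ c ≪≫
      (coproductUniqueIso fun _ : Fin 1 => e.twist j).symm⟩
  · obtain ⟨i, ⟨u⟩⟩ := KSMod.exists_iso_twist e' (AmpleDevLib.isInvertible_pb (BrSev.proj f F) hL)
    obtain ⟨c⟩ := KSMod.pullback_twist_bcUp e e' i
    have h1 : e.twist i ≅ e.twist j :=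
      c.symm ≪≫ (Scheme.Modules.pullback _).mapIso u.symm ≪≫ up L ≪≫ t ≪≫ coproductUniqueIso _
    obtain ⟨w⟩ : Nonempty (e'.twist i ≅ e'.twist j) := by
      rcases Nat.eq_zero_or_pos (n' - 1) with h0 | hpos
      · have key : ∀ (m : ℕ) (s : BrSev.Splitting f F m), m = 0 → Nonempty (s.twist i ≅ s.twist j) := by
          rintro m s rfl
          obtain ⟨a⟩ := twist_trivial_zero (K := F) i
          obtain ⟨b⟩ := twist_trivial_zero (K := F) j
          exact ⟨(Scheme.Modules.pullback s.iso.hom).mapIso (a ≪≫ b.symm)⟩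
        exact key _ e' h0
      · obtain rfl := PicPnLib.twist_injective (n := n' - 1) (R := K) hpos (PicPnLib.iso_of_pb_iso e.iso.hom h1).some
        exact ⟨Iso.refl _⟩
    exact ⟨u ≪≫ w ≪≫ (coproductUniqueIso fun _ : Fin 1 => e'.twist j).symm⟩

end SBTaut
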