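import Groth.Agent.SBTautLib.Pull
import Groth.Agent.SBAutLib.Rigid
import Groth.Agent.WedgeLib.FiltTools
import Groth.Agent.AmpleLib.Powers
import Groth.Agent.TwistLib.PullGen

/-! A morphism to a split Severi–Brauer scheme with given tautological bundle. -/

set_option autoImplicit false
set_option linter.style.haveILetI false
set_option linter.unusedSectionVars false
universe u

noncomputable section

open CategoryTheory CategoryTheory.Limits AlgebraicGeometry TopologicalSpace Opposite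
open scoped TensorProduct
open FittLib (coord stdSec)
open AmpleLib (GenOn res shT)

namespace SBTaut

variable {k : Type u} [Field k] {A : Type u} [Ring A] [Algebra k A] [Module.Finite k A] {n : ℕ}
  {K : Type u} [Field K] [Algebra k K] (sp : SBAutLib.Split k A n K) (hA : Module.finrank k A = n * n) (hn : 0 < n)
  {X : Scheme.{u}} {f : X ⟶ Spec (CommRingCat.of k)} (σ : BrSev.SBStr k A (n * n - n) f)
  {Y : Scheme.{u}} (sY : Y ⟶ Spec (CommRingCat.of K))

/-- The points over the extension. -/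
def IsPtK {R : Type u} [CommRing R] [Algebra K R] (y : Spec (CommRingCat.of R) ⟶ Y) : Prop :=
  y ≫ sY = Spec.map (CommRingCat.ofHom (algebraMap K R))

theorem exists_algK (D : Y.Opens) (hD : IsAffineOpen D) :
    ∃ (_ : Algebra K Γ(Y, D)), IsPtK sY (R := Γ(Y, D)) hD.fromSpec := by
  refine ⟨(((Scheme.ΓSpecIso (CommRingCat.of K)).inv ≫ sY.appLE ⊤ D le_top).hom).toAlgebra, ?_⟩
  letI := (((Scheme.ΓSpecIso (CommRingCat.of K)).inv ≫ sY.appLE ⊤ D le_top).hom).toAlgebra
  have h := IsAffineOpen.SpecMap_appLE_fromSpec sY (isAffineOpen_top (Spec (CommRingCat.of K))) hD le_top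
  rw [IsAffineOpen.fromSpec_top, Scheme.isoSpec_Spec_inv, ← Spec.map_comp] at h
  unfold IsPtK
  rw [← h]
  rfl

/-- The structure over the ground field. -/
abbrev qY : Y ⟶ Spec (CommRingCat.of k) := sY ≫ Spec.map (CommRingCat.ofHom (algebraMap k K))

include hA in
/-- The morphism of a unimodular vector on an affine open. -/
theorem exists_local (D : Y.Opens) (hD : IsAffineOpen D) (v : Fin n → Γ(Y, D))
    (hv : ∃ w : Fin n → Γ(Y, D), ∑ j, v j * w j = 1) :
    ∃ φ : D.toScheme ⟶ X, φ ≫ f = D.ι ≫ qY (k := k) sY ∧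
      ∀ (R : Type u) [CommRing R] [Algebra k R] [Algebra K R] [IsScalarTower k K R]
        (y : Spec (CommRingCat.of R) ⟶ D.toScheme) (_ : IsPtK sY (y ≫ D.ι)) (hp : (y ≫ φ) ≫ f = Spec.map (CommRingCat.ofHom (algebraMap k R)))
        (hW : ⊤ ≤ (y ≫ D.ι) ⁻¹ᵁ D) (hv' : ∃ w : Fin n → R, ∑ j, ev (y ≫ D.ι) hW (v j) * w j = 1),
        σ.bij R ⟨y ≫ φ, hp⟩ = SBAutLib.pt sp R hA (fun j => ev (y ≫ D.ι) hW (v j)) hv' := by
  obtain ⟨_, hDK⟩ := exists_algK sY D hD
  letI : Algebra k Γ(Y, D) := ((algebraMap K Γ(Y, D)).comp (algebraMap k K)).toAlgebra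
  haveI : IsScalarTower k K Γ(Y, D) := IsScalarTower.of_algebraMap_eq fun _ => rfl
  let P := (σ.bij Γ(Y, D)).symm (SBAutLib.pt sp Γ(Y, D) hA v hv)
  have hφ : (hD.isoSpec.hom ≫ P.1) ≫ f = D.ι ≫ qY (k := k) sY := by
    rw [Category.assoc, P.2, show D.ι = hD.isoSpec.hom ≫ hD.fromSpec from hD.isoSpec_hom_fromSpec.symm, Category.assoc]
    congr 1
    show _ = hD.fromSpec ≫ sY ≫ Spec.map (CommRingCat.ofHom (algebraMap k K))
    rw [← Category.assoc, show hD.fromSpec ≫ sY = _ from hDK, ← Spec.map_comp, ← CommRingCat.ofHom_comp]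
  refine ⟨hD.isoSpec.hom ≫ P.1, hφ, fun R _ _ _ _ y hy hp hW hv' => ?_⟩
  have he := eq_specMap_fromSpec (y ≫ D.ι) hD hW
  have hy' : y ≫ hD.isoSpec.hom = Spec.map (CommRingCat.ofHom (ev (y ≫ D.ι) hW)) := by
    rw [← cancel_mono hD.fromSpec, Category.assoc, hD.isoSpec_hom_fromSpec, he]
  have hc : (ev (y ≫ D.ι) hW).comp (algebraMap K Γ(Y, D)) = algebraMap K R := by
    apply congrArg CommRingCat.Hom.hom (Spec.map_injective (a₁ := CommRingCat.ofHom ((ev (y ≫ D.ι) hW).comp (algebraMap K Γ(Y, D))))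
      (a₂ := CommRingCat.ofHom (algebraMap K R)) ?_)
    rw [CommRingCat.ofHom_comp, Spec.map_comp, ← hy]
    conv_rhs => rw [← he]
    rw [show Spec.map (CommRingCat.ofHom (algebraMap K Γ(Y, D))) = hD.fromSpec ≫ sY from hDK.symm, Category.assoc]
  let ψ : Γ(Y, D) →ₐ[K] R := { ev (y ≫ D.ι) hW with commutes' := fun r => congr($hc r) }
  have e : (⟨y ≫ hD.isoSpec.hom ≫ P.1, hp⟩ : BrSev.Pts f R) = BrSev.Pts.map f (ψ.restrictScalars k) P :=
    Subtype.ext (by
      show y ≫ hD.isoSpec.hom ≫ P.1 = Spec.map (CommRingCat.ofHom (ev (y ≫ D.ι) hW)) ≫ P.1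
      rw [← Category.assoc, hy'])
  rw [e]
  refine (SBActLib.sbset_ext ?_ : _ = SBAutLib.mapSet (ψ.restrictScalars k) (σ.bij _ P)).trans ?_
  · exact σ.natural _ _ (ψ.restrictScalars k) P
  rw [Equiv.apply_symm_apply]
  exact SBAutLib.mapSet_pt sp hA ψ v hv hv'

variable {L₀ : Y.Modules} (D : Fin n → Y.Opens) (hD : ∀ i, IsAffineOpen (D i)) (hcov : ⨆ i, D i = ⊤)
  (s : Fin n → Γ(L₀, ⊤)) (hgen : ∀ i, GenOn L₀ (res L₀ (le_top : D i ≤ ⊤) (s i)))

/-- The ratio of two sections. -/
def ratio (i j : Fin n) : Γ(Y, D i) :=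
  (Equiv.ofBijective _ (hgen i (D i) le_rfl)).symm (res L₀ (le_top : D i ≤ ⊤) (s j))

theorem ratio_spec (i j : Fin n) :
    ratio D s hgen i j • res L₀ (le_top : D i ≤ ⊤) (s i) = res L₀ (le_top : D i ≤ ⊤) (s j) := by
  have h := (Equiv.ofBijective _ (hgen i (D i) le_rfl)).apply_symm_apply (res L₀ (le_top : D i ≤ ⊤) (s j))
  simp only [Equiv.ofBijective_apply] at h
  refine Eq.trans ?_ h
  exact congrArg (ratio D s hgen i j • ·) (AmpleLib.res_refl L₀ _).symm

theorem ratio_res {V : Y.Opens} (i j : Fin n) (hi : V ≤ D i) :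
    Y.presheaf.map (homOfLE hi).op (ratio D s hgen i j) • res L₀ (le_top : V ≤ ⊤) (s i) =
      res L₀ (le_top : V ≤ ⊤) (s j) := by
  have h := congrArg (fun t => L₀.presheaf.map (homOfLE hi).op t) (ratio_spec D s hgen i j)
  simp only [AmpleLib.res] at h ⊢
  rw [Scheme.Modules.map_smul] at h
  rw [QCohLib.map_map', QCohLib.map_map'] at h
  exact h

theorem ratio_self (i : Fin n) : ratio D s hgen i i = 1 := by
  refine (hgen i (D i) le_rfl).1 ?_
  simp only [AmpleLib.res_refl, one_smul]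
  exact ratio_spec D s hgen i i

theorem ratio_trans {V : Y.Opens} (i j l : Fin n) (hi : V ≤ D i) (hj : V ≤ D j) :
    Y.presheaf.map (homOfLE hi).op (ratio D s hgen i j) * Y.presheaf.map (homOfLE hj).op (ratio D s hgen j l) =
      Y.presheaf.map (homOfLE hi).op (ratio D s hgen i l) := by
  refine (hgen i V hi).1 ?_
  show _ • AmpleLib.res L₀ hi _ = _ • AmpleLib.res L₀ hi _
  rw [show AmpleLib.res L₀ hi (AmpleLib.res L₀ le_top (s i)) = res L₀ (le_top : V ≤ ⊤) (s i) from QCohLib.map_map' L₀ _ _ _,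
    mul_comm, mul_smul, ratio_res, ratio_res, ratio_res]

include hA hn hD hcov in
/-- The morphism given by a system of sections. -/
theorem exists_morphism : ∃ φ : Y ⟶ X, φ ≫ f = qY (k := k) sY ∧
    ∀ (i : Fin n) (R : Type u) [CommRing R] [Algebra k R] [Algebra K R] [IsScalarTower k K R]
      (y : Spec (CommRingCat.of R) ⟶ Y) (_ : IsPtK sY y) (hy : IsPt (f := f) φ y) (hW : ⊤ ≤ y ⁻¹ᵁ D i),
      ideal σ φ y hy = LinearMap.range (SBAutLib.line sp R hA fun j => ev y hW (ratio D s hgen i j)) := by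
  classical
  have huni : ∀ (i : Fin n), ∃ w : Fin n → Γ(Y, D i), ∑ j, ratio D s hgen i j * w j = 1 := fun i =>
    ⟨Pi.single i 1, by simp [Pi.single_apply, ratio_self]⟩
  choose φ hφ hφp using fun i => exists_local sp hA σ sY (D i) (hD i) _ (huni i)
  let 𝒰 := Y.openCoverOfIsOpenCover D hcov
  have hglue : ∀ i j, pullback.fst (D i).ι (D j).ι ≫ φ i = pullback.snd (D i).ι (D j).ι ≫ φ j := fun i j => by
    refine Scheme.Cover.hom_ext (pullback (D i).ι (D j).ι).affineCover _ _ fun m => ?_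
    let Z := pullback (D i).ι (D j).ι
    obtain ⟨R, ⟨e⟩⟩ : ∃ R : CommRingCat.{u}, Nonempty (Spec R ≅ Z.affineCover.X m) := ⟨_, ⟨Iso.refl _⟩⟩
    rw [← cancel_epi e.hom, ← Category.assoc, ← Category.assoc]
    let z : Spec R ⟶ Z := e.hom ≫ Z.affineCover.f m
    show z ≫ pullback.fst _ _ ≫ φ i = z ≫ pullback.snd _ _ ≫ φ j
    obtain ⟨ρ, hρ⟩ := Spec.map_surjective (z ≫ pullback.fst _ _ ≫ (D i).ι ≫ sY)
    letI : Algebra K R := ρ.hom.toAlgebra
    letI : Algebra k R := ((algebraMap K R).comp (algebraMap k K)).toAlgebra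
    haveI : IsScalarTower k K R := IsScalarTower.of_algebraMap_eq fun _ => rfl
    let y := (z ≫ pullback.fst _ _) ≫ (D i).ι
    have ey : y = (z ≫ pullback.snd _ _) ≫ (D j).ι := by
      simp only [y, Category.assoc, pullback.condition]
    have hyK : IsPtK sY (R := R) y := by
      show y ≫ sY = _
      simp only [y, Category.assoc]
      exact hρ.symm
    have hkf : ∀ (l : Fin n) (w : Spec R ⟶ (D l).toScheme), w ≫ (D l).ι = y →
        (w ≫ φ l) ≫ f = Spec.map (CommRingCat.ofHom (algebraMap k R)) := fun l w hw => by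
      rw [Category.assoc, hφ, ← Category.assoc, hw, qY, ← Category.assoc, show y ≫ sY = _ from hyK, ← Spec.map_comp,
        ← CommRingCat.ofHom_comp]
    have hWi : ⊤ ≤ y ⁻¹ᵁ D i := fun w _ => ((z ≫ pullback.fst _ _) w).2
    have hWj : ⊤ ≤ y ⁻¹ᵁ D j := fun w _ => by
      show y w ∈ D j
      rw [ey]
      exact ((z ≫ pullback.snd _ _) w).2
    have huv : ∀ (l : Fin n) (hl : ⊤ ≤ y ⁻¹ᵁ D l), ∃ w : Fin n → R, ∑ t, ev y hl (ratio D s hgen l t) * w t = 1 :=
      fun l hl => ⟨Pi.single l 1, by simp [Pi.single_apply, ratio_self]⟩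
    have hi := hφp i R (z ≫ pullback.fst _ _) hyK (hkf i _ rfl) hWi (huv i hWi)
    have ey' : ev (R := R) y hWj = ev ((z ≫ pullback.snd _ _) ≫ (D j).ι) (ey ▸ hWj) := by
      congr 1
    have hj := hφp j R (z ≫ pullback.snd _ _) (ey ▸ hyK) (hkf j _ ey.symm) (ey ▸ hWj) (by
      rw [← ey']; exact huv j hWj)
    have hpt : SBAutLib.pt sp R hA (fun t => ev y hWi (ratio D s hgen i t)) (huv i hWi) =
        SBAutLib.pt sp R hA (fun t => ev y hWj (ratio D s hgen j t)) (huv j hWj) := by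
      refine (SBAutLib.pt_eq_iff sp R hA _ _ _ _ hn).2 ⟨ev y hWi (ratio D s hgen i j), funext fun t => ?_⟩
      have hV : ⊤ ≤ y ⁻¹ᵁ (D i ⊓ D j) := fun w hw => ⟨hWi hw, hWj hw⟩
      show _ = ev y hWi _ * ev y hWj _
      rw [← ev_res y (inf_le_left : D i ⊓ D j ≤ D i) hV, ← ev_res y (inf_le_left : D i ⊓ D j ≤ D i) hV,
        ← ev_res y (inf_le_right : D i ⊓ D j ≤ D j) hV, ← map_mul, ratio_trans]
    have h' : (⟨(z ≫ pullback.fst _ _) ≫ φ i, hkf i _ rfl⟩ : BrSev.Pts f R) =
        ⟨(z ≫ pullback.snd _ _) ≫ φ j, hkf j _ ey.symm⟩ :=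
      (σ.bij R).injective (hi.trans (hpt.trans ((SBAutLib.pt_congr sp hA (funext fun t => by rw [ey']) _ _).trans hj.symm)))
    simpa [Category.assoc] using congrArg Subtype.val h'
  refine ⟨𝒰.glueMorphisms φ hglue, ?_, fun i R _ _ _ _ y hyK hy hW => ?_⟩
  · refine Scheme.Cover.hom_ext 𝒰 _ _ fun i => ?_
    rw [← Category.assoc, Scheme.Cover.ι_glueMorphisms]
    exact hφ i
  · have hr : Set.range y ⊆ Set.range (D i).ι := by
      rintro _ ⟨w, rfl⟩
      exact ⟨⟨y w, hW trivial⟩, rfl⟩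
    let w := IsOpenImmersion.lift (D i).ι y hr
    have hw : w ≫ (D i).ι = y := IsOpenImmersion.lift_fac _ _ hr
    have e1 : y ≫ 𝒰.glueMorphisms φ hglue = w ≫ φ i := by
      have h0 : (D i).ι ≫ 𝒰.glueMorphisms φ hglue = φ i := Scheme.Cover.ι_glueMorphisms 𝒰 φ hglue i
      conv_lhs => rw [← hw, Category.assoc, h0]
    have hev : ev y hW = ev (w ≫ (D i).ι) (hw.symm ▸ hW) := by congr 1; exact hw.symm
    have h := hφp i R w (hw.symm ▸ hyK) (by rw [← e1]; exact hy) (hw.symm ▸ hW)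
      ⟨Pi.single i 1, by simp [Pi.single_apply, ratio_self]⟩
    have h2 : (⟨y ≫ 𝒰.glueMorphisms φ hglue, hy⟩ : BrSev.Pts f R) = ⟨w ≫ φ i, by rw [← e1]; exact hy⟩ := Subtype.ext e1
    unfold ideal idl
    rw [h2, h, hev]
    rfl

section frames

variable {N : ℕ} (b : Module.Basis (Fin N) k A) {φ : Y ⟶ X}

omit [Module.Finite k A] in
theorem free_ext_pts {V : Y.Opens} {a a' : Γ(FlatMod.freeMod Y N, V)}
    (h : ∀ (W : Y.Opens) (hW : IsAffineOpen W) (hWV : W ≤ V) (R : Type u) [CommRing R] [Algebra k R]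
      (y : Spec (CommRingCat.of R) ⟶ Y) (_ : IsPt (f := f) φ y) (hy : ⊤ ≤ y ⁻¹ᵁ W),
      at' b y (hy.trans (y.preimage_mono hWV)) a = at' b y (hy.trans (y.preimage_mono hWV)) a') : a = a' := by
  refine free_ext fun i => ?_
  choose W hW hxW hWV using fun x : V => exists_isAffineOpen_mem_and_subset x.2
  refine Y.sheaf.eq_of_locally_eq' W V (fun x => homOfLE (hWV x)) (fun x hx => Opens.mem_iSup.2 ⟨⟨x, hx⟩, hxW _⟩) _ _
    fun x => ?_
  obtain ⟨_, hy⟩ := exists_alg (f := f) φ (hW x)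
  have h1 := congrFun ((toT_bijective b).1 (h (W x) (hW x) (hWV x) Γ(Y, W x) (hW x).fromSpec hy
    (hW x).fromSpec_preimage_self.ge)) i
  simp only [← ev_res (hW x).fromSpec (hWV x) (hW x).fromSpec_preimage_self.ge, ev_fromSpec (hW x)] at h1
  exact h1

theorem frame_reindex {Z : Scheme.{u}} {E : Z.Modules} {a c : ℕ} (e : Fin c ≃ Fin a) {U : Z.Opens}
    {t : Fin a → Γ(E, U)} (ht : ProjFormLib.IsFrame E t) : ProjFormLib.IsFrame E (t ∘ e) := fun y hy => by
  have h : ⇑(Fintype.linearCombination (Z.presheaf.stalk y) fun i => ProjFormLib.ger E y hy ((t ∘ e) i)) =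
      ⇑(Fintype.linearCombination (Z.presheaf.stalk y) fun i => ProjFormLib.ger E y hy (t i)) ∘
        (fun x : Fin c → Z.presheaf.stalk y => x ∘ e.symm) := funext fun x => by
    simp only [Function.comp_apply, Fintype.linearCombination_apply]
    exact Fintype.sum_equiv e _ _ fun i => by simp
  exact h ▸ (ht y hy).comp (e.arrowCongr (Equiv.refl _)).bijective

include hA hD hcov in
/-- The tautological bundle of the morphism of a system of sections. -/
theorem nonempty_tensor_iso (hφf : φ ≫ f = qY (k := k) sY)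
    (hφ : ∀ (i : Fin n) (R : Type u) [CommRing R] [Algebra k R] [Algebra K R] [IsScalarTower k K R]
      (y : Spec (CommRingCat.of R) ⟶ Y) (_ : IsPtK sY y) (hy : IsPt (f := f) φ y) (hW : ⊤ ≤ y ⁻¹ᵁ D i),
      ideal σ φ y hy = LinearMap.range (SBAutLib.line sp R hA fun j => ev y hW (ratio D s hgen i j))) :
    Nonempty (CohB1.tensorMod (Taut b σ φ) L₀ ≅ FlatMod.freeMod Y n) := by
  classical
  have key : ∀ i : Fin n, ∃ t : Fin n → Γ(FlatMod.freeMod Y N, D i), IsTF b σ φ (D i) t ∧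
      ∀ (R : Type u) [CommRing R] [Algebra k R] [Algebra K R] [IsScalarTower k K R]
        (y : Spec (CommRingCat.of R) ⟶ Y) (_ : IsPtK sY y) (_ : IsPt (f := f) φ y) (hW : ⊤ ≤ y ⁻¹ᵁ D i) (a : Fin n),
        at' b y hW (t a) = SBAutLib.line sp R hA (fun j => ev y hW (ratio D s hgen i j)) (Pi.single a 1) := by
    intro i
    obtain ⟨_, hDK⟩ := exists_algK sY (D i) (hD i)
    letI : Algebra k Γ(Y, D i) := ((algebraMap K Γ(Y, D i)).comp (algebraMap k K)).toAlgebra
    haveI : IsScalarTower k K Γ(Y, D i) := IsScalarTower.of_algebraMap_eq fun _ => rfl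
    have hyV : IsPt (f := f) φ (R := Γ(Y, D i)) (hD i).fromSpec := by
      unfold IsPt
      rw [Category.assoc, hφf, qY, ← Category.assoc, show (hD i).fromSpec ≫ sY = _ from hDK, ← Spec.map_comp,
        ← CommRingCat.ofHom_comp]
    let c := fun j => ratio D s hgen i j
    let v := fun a : Fin n => SBAutLib.line sp Γ(Y, D i) hA c (Pi.single a 1)
    have hI : ideal σ φ (hD i).fromSpec hyV = LinearMap.range (SBAutLib.line sp Γ(Y, D i) hA c) := by
      rw [hφ i _ _ hDK hyV (hD i).fromSpec_preimage_self.ge]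
      simp only [ev_fromSpec (hD i), c]
    have hv : IsB (ideal σ φ (hD i).fromSpec hyV) v := by
      refine ⟨?_, fun a => ((LinearMap.proj i).comp (LinearMap.proj a : Matrix (Fin n) (Fin n) Γ(Y, D i) →ₗ[Γ(Y, D i)] _)).comp
        (SBAutLib.mat sp Γ(Y, D i) hA).toLinearMap, fun a a' => ?_⟩
      · rw [hI, LinearMap.range_eq_map, ← (Pi.basisFun Γ(Y, D i) (Fin n)).span_eq, Submodule.map_span, ← Set.range_comp]
        congr 2
        funext a
        simp [v]
      · show (SBAutLib.mat sp Γ(Y, D i) hA (v a')) a i = _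
        simp [v, SBAutLib.mat_line, Matrix.vecMulVec_apply, c, ratio_self, Pi.single_apply]
    choose x hx using fun a => (toT_bijective b).2 (v a)
    refine ⟨fun a => (GrassSch.coordEquiv Y N (D i)).symm (x a), isTF_of_affine (hD i) hyV hv x hx,
      fun R _ _ _ _ y hyK hy hW a => ?_⟩
    obtain ⟨ψ, hψ, -⟩ := exists_algHom (hD i) hyV y hy hW
    have hc : (ev y hW).comp (algebraMap K Γ(Y, D i)) = algebraMap K R := by
      apply congrArg CommRingCat.Hom.hom (Spec.map_injective (a₁ := CommRingCat.ofHom ((ev y hW).comp (algebraMap K Γ(Y, D i))))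
        (a₂ := CommRingCat.ofHom (algebraMap K R)) ?_)
      rw [CommRingCat.ofHom_comp, Spec.map_comp, ← hyK]
      conv_rhs => rw [← eq_specMap_fromSpec y (hD i) hW]
      rw [show Spec.map (CommRingCat.ofHom (algebraMap K Γ(Y, D i))) = (hD i).fromSpec ≫ sY from hDK.symm, Category.assoc]
    let χ : Γ(Y, D i) →ₐ[K] R := { ev y hW with commutes' := fun r => congr($hc r) }
    have h1 : at' b y hW ((GrassSch.coordEquiv Y N (D i)).symm (x a)) = GrassLib.mapM (χ.restrictScalars k) (v a) := by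
      rw [← hx a, mapM_toT]
      show toT b (fun l => ev y hW (coord _ l)) = _
      congr 1
      funext l
      exact congrArg (ev y hW) (congrFun ((GrassSch.coordEquiv Y N (D i)).apply_symm_apply (x a)) l)
    rw [h1, ← mapM_eq_map]
    refine (SBAutLib.mat sp R hA).injective ?_
    rw [SBAutLib.mat_apply, SBAutLib.toMat_map, ← SBAutLib.mat_apply sp _ hA, SBAutLib.mat_line, SBAutLib.mat_line]
    ext a' l
    simp only [Matrix.map_apply, Matrix.vecMulVec_apply, map_mul, Pi.single_apply]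
    congr 1
    split_ifs <;> simp
  choose t ht htp using key
  let T := CohB1.tensorMod (Taut b σ φ) L₀
  let w := fun (a i : Fin n) => (shT ((taut b σ φ).lift (t i a) ((ht i).mem a))
    (res L₀ (le_top : D i ≤ ⊤) (s i)) : Γ(T, D i))
  have hcompat : ∀ a, TopCat.Presheaf.IsCompatible ((QCohLib.toAbF Y).obj T : TopCat.Sheaf AddCommGrpCat _).obj D (w a) := by
    intro a i j
    show res T (inf_le_left : D i ⊓ D j ≤ D i) (w a i) = res T (inf_le_right : D i ⊓ D j ≤ D j) (w a j)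
    show res (CohB1.tensorMod (Taut b σ φ) L₀) _ _ = res (CohB1.tensorMod (Taut b σ φ) L₀) _ _
    rw [AmpleLib.shT_res, AmpleLib.shT_res]
    rw [show AmpleLib.res L₀ (inf_le_left : D i ⊓ D j ≤ D i) (res L₀ le_top (s i)) = res L₀ (le_top : D i ⊓ D j ≤ ⊤) (s i) from
        QCohLib.map_map' L₀ _ _ _,
      show AmpleLib.res L₀ (inf_le_right : D i ⊓ D j ≤ D j) (res L₀ le_top (s j)) = res L₀ (le_top : D i ⊓ D j ≤ ⊤) (s j) from
        QCohLib.map_map' L₀ _ _ _]
    let cji := Y.presheaf.map (homOfLE (inf_le_right : D i ⊓ D j ≤ D j)).op (ratio D s hgen j i)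
    let cij := Y.presheaf.map (homOfLE (inf_le_left : D i ⊓ D j ≤ D i)).op (ratio D s hgen i j)
    have h1 : AmpleLib.res (Taut b σ φ) (inf_le_right : D i ⊓ D j ≤ D j) ((taut b σ φ).lift (t j a) ((ht j).mem a)) =
        cji • AmpleLib.res (Taut b σ φ) (inf_le_left : D i ⊓ D j ≤ D i) ((taut b σ φ).lift (t i a) ((ht i).mem a)) := by
      refine (taut b σ φ).ι_app_injective _ (free_ext_pts (f := f) (φ := φ) b fun W hW hWV R _ _ y hy hyW => ?_)
      obtain ⟨ρ, hρ⟩ := Spec.map_surjective (y ≫ sY)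
      letI : Algebra K R := ρ.hom.toAlgebra
      haveI : IsScalarTower k K R := IsScalarTower.of_algebraMap_eq fun r => by
        have e1 : Spec.map (CommRingCat.ofHom (algebraMap k R)) =
            Spec.map (CommRingCat.ofHom ((algebraMap K R).comp (algebraMap k K))) := by
          rw [← show (y ≫ φ) ≫ f = _ from hy, Category.assoc, hφf, qY, ← Category.assoc, ← hρ, CommRingCat.ofHom_comp,
            Spec.map_comp]
          rfl
        exact congr($(Spec.map_injective e1) r)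
      have hV : ⊤ ≤ y ⁻¹ᵁ (D i ⊓ D j) := hyW.trans (y.preimage_mono hWV)
      have hyK : IsPtK sY y := hρ.symm
      rw [Scheme.Modules.Hom.app_smul, at'_smul]
      show at' b y hV ((FlatMod.freeMod Y N).presheaf.map (homOfLE (inf_le_right : D i ⊓ D j ≤ D j)).op (t j a)) =
        ev y hV cji • at' b y hV ((FlatMod.freeMod Y N).presheaf.map (homOfLE (inf_le_left : D i ⊓ D j ≤ D i)).op (t i a))
      rw [at'_res, at'_res, htp j R y hyK hy, htp i R y hyK hy]
      refine (SBAutLib.mat sp R hA).injective ?_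
      rw [map_smul, SBAutLib.mat_line, SBAutLib.mat_line, ← Matrix.vecMulVec_smul]
      congr 1
      funext l
      show _ = ev y hV cji * ev y _ _
      rw [← ev_res y (inf_le_left : D i ⊓ D j ≤ D i) hV, ← ev_res y (inf_le_right : D i ⊓ D j ≤ D j) hV, ← map_mul,
        ratio_trans]
    rw [h1, ← ratio_res D s hgen i j (inf_le_left : D i ⊓ D j ≤ D i), AmpleLib.shT_smul,
      ratio_trans, ratio_self, map_one, one_smul]
  choose u hu using fun a => (TopCat.Sheaf.existsUnique_gluing ((QCohLib.toAbF Y).obj T : TopCat.Sheaf AddCommGrpCat _) D (w a) (hcompat a))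
  let u' := fun a => res T (hcov.ge : ⊤ ≤ ⨆ i, D i) (u a)
  have hu' : ∀ a i, res T (le_top : D i ≤ ⊤) (u' a) = w a i := fun a i =>
    (QCohLib.map_map' T _ _ _).trans ((hu a).1 i)
  have hfr : ProjFormLib.IsFrame T u' := by
    intro y hy
    obtain ⟨i, hi⟩ := Opens.mem_iSup.1 (hcov.ge hy)
    let e := ((finProdFinEquiv (m := n) (n := 1)).symm.trans (Equiv.prodUnique (Fin n) (Fin 1))).symm
    have h1 := frame_reindex e (WedgeLib.isFrame_shT (ht i).isFrame (d := fun _ : Fin 1 => res L₀ (le_top : D i ≤ ⊤) (s i))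
      (fun z hz => by
        have hg := (hgen i).genAt hz
        let E1 := (LinearEquiv.funUnique (Fin 1) (Y.presheaf.stalk z) (Y.presheaf.stalk z)).toEquiv
        have h : ⇑(Fintype.linearCombination (Y.presheaf.stalk z) fun _ : Fin 1 =>
            ProjFormLib.ger L₀ z hz (res L₀ (le_top : D i ≤ ⊤) (s i))) =
            (fun c : Y.presheaf.stalk z => c • L₀.presheaf.germ (D i) z hz (res L₀ (le_top : D i ≤ ⊤) (s i))) ∘ E1 := funext fun x => by
          simp [Fintype.linearCombination_apply, E1]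
          exact congrArg (x 0 • ·) (TopCat.Presheaf.germ_res_apply L₀.presheaf (homOfLE (le_top : D i ≤ ⊤)) z hz (s i))
        rw [h]
        exact hg.comp E1.bijective)) y hi
    have h2 : (fun a => ProjFormLib.ger T y hy (u' a)) = fun a => ProjFormLib.ger T y (U := D i) hi (w a i) :=
      funext fun a => by rw [← hu' a i]; exact (ProjFormLib.ger_res T le_top y hi _).symm
    rw [h2]
    convert h1 using 3
    funext a
    have he : (finProdFinEquiv.symm (e a)).1 = a := by simp [e, Equiv.prodUnique]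
    simp only [Function.comp_apply, w]
    congr 2
    simp only [he]
  exact CohCmpLib.exists_iso_freeMod_of_frame hfr

end frames

end SBTaut
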