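import Groth.Agent.SBTautLib.Decomp
import Groth.Agent.SBTautLib.Proj
import Groth.Agent.SBTwLib.Mult
import Groth.Agent.TwistLib.PtApp
import Groth.Agent.CSALib.Tpow

/-! The type and the Brauer class of the tautological bundle, and the index theorem. -/

set_option autoImplicit false
set_option linter.style.haveILetI false
set_option linter.unusedSectionVars false
universe u

noncomputable section

open CategoryTheory CategoryTheory.Limits AlgebraicGeometry
open scoped TensorProduct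
open W4c1astiltbs12 (pow)
open KFlatLib (pb)
open AmpleLib (GenOn res)

namespace SBTaut

attribute [local instance] Abelian.hasFiniteBiproducts

variable {k : Type u} [Field k] {A : Type u} [Ring A] [Algebra k A] [Algebra.IsCentral k A] [IsSimpleRing A]
  {m : ℕ} (hA : Module.finrank k A = (m + 1) * (m + 1))
  {X : Scheme.{u}} {f : X ⟶ Spec (CommRingCat.of k)} [IsProper f]
  (σ : BrSev.SBStr k A ((m + 1) * (m + 1) - (m + 1)) f)
  {N : ℕ} (b : Module.Basis (Fin N) k A) (hN : N = (m + 1) * (m + 1))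
  {K : Type u} [Field K] [Algebra k K] (e : BrSev.Splitting f K m)

section Y

variable (m) (K)

theorem nonempty_free_tensor (n : ℕ) :
    Nonempty (CohB1.tensorMod (FlatMod.freeMod (CohB1.ProjSpace m K) n) (Twist.twistProjSpace m K (-1)) ≅
      pow (Twist.twistProjSpace m K (-1)) n) := by
  let L := Twist.twistProjSpace m K (-1)
  obtain ⟨t⟩ := SBTw.nonempty_tensor_pow (Coh.structureModule (CohB1.ProjSpace m K)) L n 1
  let u : L ≅ pow L 1 :=
    { hom := Sigma.ι (fun _ : Fin 1 => L) 0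
      inv := Sigma.desc fun _ => 𝟙 L
      hom_inv_id := Sigma.ι_desc _ _
      inv_hom_id := Sigma.hom_ext _ _ fun i => by fin_cases i; simp }
  exact ⟨HilbPolyLib.congrRight _ u ≪≫ t ≪≫ eqToIso (by rw [mul_one]) ≪≫
    Sigma.mapIso fun _ => HilbPolyLib.unitLeft L⟩

end Y

include hA in
/-- A morphism from projective space along which the tautological bundle becomes a power of `O(-1)`. -/
theorem exists_test (sp : SBAutLib.Split k A (m + 1) K) [Module.Finite k A] :
    ∃ φ : CohB1.ProjSpace m K ⟶ X, φ ≫ f = qY (k := k) (CohB1.ProjSpace.toSpec m K) ∧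
      Nonempty (Taut b σ φ ≅ pow (Twist.twistProjSpace m K (-1)) (m + 1)) := by
  let D := fun i : Fin (m + 1) => QCohLib.stdOpen m K i
  let s := fun i : Fin (m + 1) => (Twist.globalOf (CohB1.polyGrading m K)
    ⟨MvPolynomial.X i, MvPolynomial.isHomogeneous_X K i⟩ : Γ(Twist.twistProjSpace m K 1, ⊤))
  have hD : ∀ i, IsAffineOpen (D i) := fun i =>
    Proj.isAffineOpen_basicOpen (CohB1.polyGrading m K) (MvPolynomial.X i) (MvPolynomial.isHomogeneous_X K i) one_pos
  have hgen : ∀ i, GenOn (Twist.twistProjSpace m K 1) (res _ (le_top : D i ≤ ⊤) (s i)) := fun i =>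
    TwistLib.globalOf_genOn (CohB1.polyGrading m K) (MvPolynomial.isHomogeneous_X K i)
  obtain ⟨φ, hφf, hφ⟩ := exists_morphism sp hA m.succ_pos σ (CohB1.ProjSpace.toSpec m K) D hD
    (QCohLib.iSup_stdOpen m K) (L₀ := Twist.twistProjSpace m K 1) s hgen
  refine ⟨φ, hφf, ?_⟩
  obtain ⟨t⟩ := nonempty_tensor_iso sp hA σ (CohB1.ProjSpace.toSpec m K) D hD (QCohLib.iSup_stdOpen m K) (L₀ := Twist.twistProjSpace m K 1) s hgen b hφf hφ
  obtain ⟨a⟩ := PicPnLib.twist_add m K 1 (-1)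
  obtain ⟨z⟩ := PicPnLib.twist_zero m K
  obtain ⟨c⟩ := PicPnLib.nonempty_cancel t (a ≪≫ eqToIso (congrArg _ (add_neg_cancel (1 : ℤ))) ≪≫ z)
  exact ⟨c ≪≫ (nonempty_free_tensor m K (m + 1)).some⟩

variable [IsAlgClosed K]

include hA hN e in
/-- The type of the tautological bundle. -/
theorem exists_type : ∃ j₀ : ℤ, BrSev.IsTwPow e j₀ (m + 1) (Taut b σ (𝟙 X)) ∧ (1 ≤ m → j₀.natAbs = 1) := by
  haveI : Module.Finite k A := Module.finite_of_finrank_pos (by rw [hA]; positivity)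
  obtain ⟨n', hn', ⟨eK⟩⟩ := CSALib.exists_matrix_of_isSepClosed (k := K) (K ⊗[k] A)
  have hn'' : n' = m + 1 := by
    have h := eK.toLinearEquiv.finrank_eq
    rw [Module.finrank_baseChange, hA, Module.finrank_matrix, Fintype.card_fin, Module.finrank_self, mul_one] at h
    exact (Nat.mul_self_inj.1 h).symm
  subst hn''
  let sp : SBAutLib.Split k A (m + 1) K := ⟨eK⟩
  obtain ⟨L, hL, ⟨eN⟩⟩ := exists_pow_iso b σ sp hN m.succ_pos
  obtain ⟨d, ⟨eL⟩⟩ := KSMod.exists_iso_twist e hL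
  refine ⟨d, ⟨eN ≪≫ Sigma.mapIso fun _ => eL⟩, fun hm => ?_⟩
  obtain ⟨φ, hφ, ⟨eT⟩⟩ := exists_test hA σ b sp
  let ψ : CohB1.ProjSpace m K ⟶ BrSev.bc f K :=
    pullback.lift φ (CohB1.ProjSpace.toSpec m K) (by rw [hφ, qY])
  have hψ : ψ ≫ BrSev.proj f K = φ ≫ 𝟙 X := by
    rw [Category.comp_id]
    exact pullback.lift_fst _ _ _
  obtain ⟨c⟩ := nonempty_pullIso b σ (𝟙 X) φ
  let τ := ψ ≫ e.iso.hom
  obtain ⟨d₁, ⟨t₁⟩⟩ := PicPnLib.exists_twist m K
    (AmpleDevLib.isInvertible_pb τ (PicPnLib.twist_inv m K 1))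
  obtain ⟨td⟩ := PicPnLib.nonempty_iso_family (fun a => pb τ (Twist.twistProjSpace m K a))
    (fun a => Twist.twistProjSpace m K (d₁ * a))
    (fun a a' => ⟨(PicPnLib.pullTens τ _ _).symm ≪≫ (Scheme.Modules.pullback τ).mapIso (PicPnLib.twist_add m K a a').some⟩)
    ⟨(Scheme.Modules.pullback τ).mapIso (PicPnLib.twist_zero m K).some ≪≫ KFlatLib.pullUnitIso τ⟩
    (fun a a' => ⟨(PicPnLib.twist_add m K _ _).some ≪≫ eqToIso (congrArg _ (mul_add d₁ a a').symm)⟩)
    ⟨eqToIso (congrArg _ (mul_zero d₁)) ≪≫ (PicPnLib.twist_zero m K).some⟩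
    ⟨t₁ ≪≫ eqToIso (congrArg _ (mul_one d₁).symm)⟩ d
  let L' := pb ψ (e.twist d)
  have eL' : L' ≅ Twist.twistProjSpace m K (d₁ * d) :=
    (Scheme.Modules.pullbackComp ψ e.iso.hom).app _ ≪≫ td
  have e1 : pb ψ (pb (BrSev.proj f K) (Taut b σ (𝟙 X))) ≅ Taut b σ φ :=
    (Scheme.Modules.pullbackComp ψ (BrSev.proj f K)).app _ ≪≫
      (Scheme.Modules.pullbackCongr (pullback.lift_fst φ (CohB1.ProjSpace.toSpec m K) _)).app _ ≪≫ c ≪≫
      eqToIso (congrArg (Taut b σ) (Category.comp_id φ))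
  have e2 : pow (Twist.twistProjSpace m K (-1)) (m + 1) ≅ pow (Twist.twistProjSpace m K (d₁ * d)) (m + 1) :=
    eT.symm ≪≫ e1.symm ≪≫ (Scheme.Modules.pullback ψ).mapIso (eN ≪≫ Sigma.mapIso fun _ => eL) ≪≫
      PreservesCoproduct.iso (Scheme.Modules.pullback ψ) _ ≪≫ Sigma.mapIso fun _ => eL'
  letI : (CohB1.ProjSpace m K).Over (Spec (CommRingCat.of K)) := ⟨CohB1.ProjSpace.toSpec m K⟩
  haveI : IsProper (BrSev.bcTo f K) := MorphismProperty.pullback_snd _ _ ‹IsProper f›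
  haveI : IsProper (CohB1.ProjSpace.toSpec m K) := by
    rw [show CohB1.ProjSpace.toSpec m K = e.iso.inv ≫ BrSev.bcTo f K by rw [← e.comm, Iso.inv_hom_id_assoc]]
    infer_instance
  haveI : IsProper (CohB1.ProjSpace m K ↘ Spec (CommRingCat.of K)) := ‹IsProper (CohB1.ProjSpace.toSpec m K)›
  haveI : IsIntegral (CohB1.ProjSpace m K) := PicPnLib.isIntegral_projSpace m K
  haveI := CurvLib.isNoetherian K (X := CohB1.ProjSpace m K)
  have hI : ∀ a, KSMod.Indec (Twist.twistProjSpace m K a) := fun a =>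
    KSMod.indec_invertible (CohB1.ProjSpace.toSpec m K) (PicPnLib.twist_inv m K a)
  obtain ⟨e3⟩ := KSMod.iso_of_pow_iso (k := K)
    (Groth.Agent.PerfLib.isCoh_of_isFinLocFree (AmpleDevLib.isFinLocFree_of_isInvertible (PicPnLib.twist_inv m K (-1))))
    (hI _) (hI _) m.succ_ne_zero e2
  have h := PicPnLib.twist_injective (n := m) (R := K) hm e3
  have h' := congrArg Int.natAbs h
  rw [Int.natAbs_mul] at h'
  exact Nat.eq_one_of_mul_eq_one_left h'.symm

end SBTaut
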