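import Groth.Agent.SBTautLib.Exist
import Groth.Agent.S7797

/-! Absolutely split bundles when the index is two, and bundles on conics. -/

set_option autoImplicit false
set_option linter.style.haveILetI false
set_option linter.unusedSectionVars false
universe u

noncomputable section

open CategoryTheory CategoryTheory.Limits AlgebraicGeometry
open scoped TensorProduct
open W4c1astiltbs12 (pow)
open KFlatLib (pb)
open DevissLib (St)

namespace SBTaut

attribute [local instance] Abelian.hasFiniteBiproducts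

/-- A coproduct over a sum. -/
def coprodSumIso {X : Scheme.{u}} {α β : Type} [Finite α] [Finite β] (F : α ⊕ β → X.Modules) :
    ∐ F ≅ (∐ fun a => F (Sum.inl a)) ⊞ (∐ fun b => F (Sum.inr b)) where
  hom := Sigma.desc (Sum.rec (fun a => Sigma.ι (fun a => F (Sum.inl a)) a ≫ biprod.inl)
    fun b => Sigma.ι (fun b => F (Sum.inr b)) b ≫ biprod.inr)
  inv := biprod.desc (Sigma.desc fun a => Sigma.ι F (Sum.inl a)) (Sigma.desc fun b => Sigma.ι F (Sum.inr b))
  hom_inv_id := Sigma.hom_ext _ _ fun x => by cases x <;> simp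
  inv_hom_id := biprod.hom_ext' _ _ (Sigma.hom_ext _ _ fun a => by simp) (Sigma.hom_ext _ _ fun b => by simp)

/-- A locally free module on an integral scheme has constant rank. -/
theorem exists_rank_of_isIntegral {X : Scheme.{u}} [IsIntegral X] {M : X.Modules} (hM : FlatMod.IsFinLocFree M) :
    ∃ r, FlatMod.IsFinLocFreeOfRank r M := by
  obtain ⟨U₀, r, h₀, ⟨e₀⟩⟩ := hM (Classical.arbitrary X)
  refine ⟨r, fun x => ?_⟩
  obtain ⟨U, m, hU, ⟨e⟩⟩ := hM x
  obtain ⟨y, hy₀, hy⟩ := nonempty_preirreducible_inter U₀.2 U.2 ⟨_, h₀⟩ ⟨x, hU⟩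
  obtain ⟨t₀⟩ := CurveVBLib.nonempty_stalk_pi_on e₀ hy₀
  obtain ⟨t⟩ := CurveVBLib.nonempty_stalk_pi_on e hy
  have h := (t₀.symm.trans t).finrank_eq
  rw [Module.finrank_fin_fun, Module.finrank_fin_fun] at h
  subst h
  exact ⟨U, hU, ⟨e⟩⟩

variable {k : Type u} [Field k] {A : Type u} [Ring A] [Algebra k A] [Algebra.IsCentral k A] [IsSimpleRing A]
  [Module.Finite k A] {n : ℕ} (hn : 0 < n) (hA : Module.finrank k A = n * n)
  {X : Scheme.{u}} {f : X ⟶ Spec (CommRingCat.of k)} [IsProper f] (hX : BrSev.IsSBOf k A (n * n - n) f)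
  {K : Type u} [Field K] [Algebra k K] [IsAlgClosure k K] (e : BrSev.Splitting f K (n - 1))

include hn hA hX in
/-- Decomposition of absolutely split bundles for index two. -/
theorem decomp_index_two (hi : CSALib.ind (CSALib.cl k A) = 2) {E : X.Modules} (hE : FlatMod.IsFinLocFree E)
    {s₀ : ℕ} (Ns : Fin s₀ → (BrSev.bc f K).Modules) (hNs : ∀ i, PicF.IsInvertible (Ns i))
    (hsplit : Nonempty (BrSev.bcMod f K E ≅ ∐ Ns)) :
    ∃ (s t : ℕ) (Ls : Fin s → X.Modules) (Ms : Fin t → X.Modules) (a : Fin s → ℤ) (b : Fin t → ℤ),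
      (∀ i, PicF.IsInvertible (Ls i) ∧ BrSev.IsTwPow e (2 * a i) 1 (Ls i)) ∧
      (∀ i, FlatMod.IsFinLocFree (Ms i) ∧ KSMod.Indec (Ms i) ∧ BrSev.IsTwPow e (2 * b i + 1) 2 (Ms i)) ∧
      Nonempty (E ≅ (∐ Ls) ⊞ (∐ Ms)) := by
  classical
  obtain ⟨t, Ws, js, rs, hW, ⟨eE⟩⟩ := KSMod.absSplit_decomp e (KSMod.exists_twPow_of_isSBOf A hn hA hX e) hE Ns hNs
    hsplit.some
  have hz2 : CSALib.cl k A ^ 2 = 1 := hi ▸ CSALib.pow_ind_eq_one _
  have hrk : ∀ i, rs i = if Even (js i) then 1 else 2 := fun i => by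
    obtain ⟨h1, h2, h3, h4⟩ := hW i
    rw [← mult_eq_ind hn hA hX e h1 h2 h3 h4]
    split_ifs with h
    · obtain ⟨c, hc⟩ := Int.natAbs_even.2 h
      rw [hc, ← two_mul, pow_mul, hz2, one_pow, CSALib.ind_eq_one_iff.2 rfl]
    · obtain ⟨c, hc⟩ := Int.natAbs_odd.2 (Int.not_even_iff_odd.1 h)
      rw [hc, pow_succ, pow_mul, hz2, one_pow, one_mul, hi]
  let P := {i : Fin t // Even (js i)}
  let Q := {i : Fin t // ¬ Even (js i)}
  let g : Fin (Fintype.card P) ⊕ Fin (Fintype.card Q) ≃ Fin t :=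
    ((Fintype.equivFin P).symm.sumCongr (Fintype.equivFin Q).symm).trans (Equiv.sumCompl fun i => Even (js i))
  refine ⟨_, _, fun i => Ws (g (Sum.inl i)), fun i => Ws (g (Sum.inr i)), fun i => js (g (Sum.inl i)) / 2,
    fun i => js (g (Sum.inr i)) / 2, fun i => ?_, fun i => ?_,
    ⟨eE ≪≫ (Sigma.whiskerEquiv g (fun x => Iso.refl (Ws (g x)))).symm ≪≫ coprodSumIso fun x => Ws (g x)⟩⟩
  · have he : Even (js (g (Sum.inl i))) := ((Fintype.equivFin P).symm i).2
    obtain ⟨h1, h2, h3, h4⟩ := hW (g (Sum.inl i))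
    rw [hrk, if_pos he] at h4
    haveI : IsAlgClosed K := IsAlgClosure.isAlgClosed k
    refine ⟨isInvertible_of_isTwPow_one e h1 h4, ?_⟩
    rwa [Int.mul_ediv_cancel' (even_iff_two_dvd.1 he)]
  · have he : ¬ Even (js (g (Sum.inr i))) := ((Fintype.equivFin Q).symm i).2
    obtain ⟨h1, h2, h3, h4⟩ := hW (g (Sum.inr i))
    rw [hrk, if_neg he] at h4
    refine ⟨h1, h2, ?_⟩
    obtain ⟨c, hc⟩ := Int.not_even_iff_odd.1 he
    rw [show 2 * (js (g (Sum.inr i)) / 2) + 1 = js (g (Sum.inr i)) by omega]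
    exact h4

/-- Bundles over the splitting field of a conic split. -/
theorem exists_split_conic {X : Scheme.{u}} {f : X ⟶ Spec (CommRingCat.of k)} (e : BrSev.Splitting f K 1)
    {E : X.Modules} (hE : FlatMod.IsFinLocFree E) :
    ∃ (s : ℕ) (Ns : Fin s → (BrSev.bc f K).Modules), (∀ i, PicF.IsInvertible (Ns i)) ∧
      Nonempty (BrSev.bcMod f K E ≅ ∐ Ns) := by
  haveI : IsIntegral (CohB1.ProjSpace 1 K) := PicPnLib.isIntegral_projSpace 1 K
  have hF := CohCmpLib.isFinLocFree_pb e.iso.inv (CohCmpLib.isFinLocFree_pb (BrSev.proj f K) hE)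
  obtain ⟨r, hr⟩ := exists_rank_of_isIntegral hF
  obtain ⟨d, ⟨-, ⟨t⟩⟩, -⟩ := Groth.Agent.S7797.result K r _ hr
  refine ⟨r, fun i => e.twist (d i), fun i => KSMod.isInvertible_twist e _, ⟨?_⟩⟩
  exact ((Scheme.Modules.pullbackId _).app _).symm ≪≫
    ((Scheme.Modules.pullbackCongr e.iso.hom_inv_id).app _).symm ≪≫
    ((Scheme.Modules.pullbackComp e.iso.hom e.iso.inv).app _).symm ≪≫
    (Scheme.Modules.pullback e.iso.hom).mapIso t ≪≫ PreservesCoproduct.iso (Scheme.Modules.pullback e.iso.hom) _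

end SBTaut
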