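import Groth.Agent.GrassLib.Free
import Groth.Agent.SBAutLib.Basic

/-! Bases of the ideals of points of a Severi–Brauer functor. -/

set_option autoImplicit false
set_option linter.unusedSectionVars false
universe u

noncomputable section

open TensorProduct

namespace SBTaut

variable {k : Type u} [Field k] {A : Type u} [Ring A] [Algebra k A] {c : ℕ} {N : ℕ} (b : Module.Basis (Fin N) k A)
  {R S : Type u} [CommRing R] [Algebra k R] [CommRing S] [Algebra k S]

/-- The element with given coordinates. -/
def toT : (Fin N → R) →ₗ[R] R ⊗[k] A where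
  toFun x := ∑ i, x i ⊗ₜ[k] b i
  map_add' x y := by simp [add_tmul, Finset.sum_add_distrib]
  map_smul' r x := by simp [Finset.smul_sum, smul_tmul', smul_eq_mul]

theorem toT_apply (x : Fin N → R) : toT b x = ∑ i, x i ⊗ₜ[k] b i := rfl

theorem toT_bijective : Function.Bijective (toT b (R := R)) := by
  have h : (toT b (R := R)) = ((Algebra.TensorProduct.basis R b).equivFun.symm : (Fin N → R) ≃ₗ[R] R ⊗[k] A).toLinearMap := by
    refine LinearMap.ext fun x => ?_
    rw [LinearEquiv.coe_coe, Module.Basis.equivFun_symm_apply, toT_apply]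
    exact Finset.sum_congr rfl fun i _ => by rw [Algebra.TensorProduct.basis_apply, smul_tmul', smul_eq_mul, mul_one]
  rw [h]
  exact LinearEquiv.bijective _

theorem mapM_toT (φ : R →ₐ[k] S) (x : Fin N → R) : GrassLib.mapM φ (toT b x) = toT b (fun i => φ (x i)) := by
  simp [toT_apply, map_sum]

/-- The ideal of a point. -/
abbrev idl (I : BrSev.SBSet k A c R) : Submodule R (R ⊗[k] A) := I.1.toSubmodule

theorem mapM_eq_map (φ : R →ₐ[k] S) (x : R ⊗[k] A) :
    Algebra.TensorProduct.map φ (AlgHom.id k A) x = GrassLib.mapM φ x := by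
  induction x using TensorProduct.induction_on with
  | zero => simp
  | tmul r a => simp
  | add x y hx hy => rw [map_add, map_add, hx, hy]

theorem idl_map (φ : R →ₐ[k] S) (I : BrSev.SBSet k A c R) :
    (Module.Grassmannian.map φ I.1).toSubmodule =
      Submodule.span S (GrassLib.mapM φ '' (idl I : Set (R ⊗[k] A))) := by
  rw [SBAutLib.map_eq_pmap, SBAutLib.pmap]
  congr 1

/-- A basis of the ideal of a point, with a dual system. -/
def IsB {m : ℕ} (I : Submodule R (R ⊗[k] A)) (v : Fin m → R ⊗[k] A) : Prop :=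
  Submodule.span R (Set.range v) = I ∧ ∃ l : Fin m → (R ⊗[k] A →ₗ[R] R), ∀ i j, l i (v j) = if i = j then 1 else 0

theorem IsB.injective {m : ℕ} {I : Submodule R (R ⊗[k] A)} {v : Fin m → R ⊗[k] A} (h : IsB I v) :
    Function.Injective (Fintype.linearCombination R v) := by
  obtain ⟨-, l, hl⟩ := h
  intro x y hxy
  funext i
  have := congrArg (l i) hxy
  simpa [Fintype.linearCombination_apply, hl] using this

theorem IsB.mem_iff {m : ℕ} {I : Submodule R (R ⊗[k] A)} {v : Fin m → R ⊗[k] A} (h : IsB I v) (x : R ⊗[k] A) :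
    x ∈ I ↔ ∃ a : Fin m → R, Fintype.linearCombination R v a = x := by
  rw [← h.1, ← Fintype.range_linearCombination, LinearMap.mem_range]

include b in
theorem IsB.map {m : ℕ} (φ : R →ₐ[k] S) {I : BrSev.SBSet k A c R} {v : Fin m → R ⊗[k] A} (h : IsB (idl I) v) :
    IsB (Module.Grassmannian.map φ I.1).toSubmodule (fun i => GrassLib.mapM φ (v i)) := by
  obtain ⟨hs, l, hl⟩ := h
  refine ⟨le_antisymm (Submodule.span_le.2 ?_) ?_, fun i => (Algebra.TensorProduct.basis S b).constr S
    fun t => φ (l i (1 ⊗ₜ[k] b t)), fun i j => ?_⟩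
  · rintro _ ⟨j, rfl⟩
    rw [SetLike.mem_coe, idl_map]
    exact Submodule.subset_span ⟨v j, hs.le (Submodule.subset_span ⟨j, rfl⟩), rfl⟩
  · rw [idl_map, Submodule.span_le]
    rintro _ ⟨x, hx, rfl⟩
    have hx' : x ∈ Submodule.span R (Set.range v) := hs.ge hx
    rw [← Fintype.range_linearCombination] at hx'
    obtain ⟨a, rfl⟩ := hx'
    rw [Fintype.linearCombination_apply, map_sum]
    refine Submodule.sum_mem _ fun j _ => ?_
    rw [GrassLib.mapM_smul]
    exact Submodule.smul_mem _ _ (Submodule.subset_span ⟨j, rfl⟩)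
  · obtain ⟨x, hx⟩ := (toT_bijective b).2 (v j)
    have h1 := hl i j
    rw [← hx, toT_apply, map_sum] at h1
    beta_reduce
    rw [← hx, mapM_toT, toT_apply, map_sum]
    have h2 := congrArg φ h1
    rw [map_sum] at h2
    rw [show (if i = j then (1 : S) else 0) = φ (if i = j then 1 else 0) by split_ifs <;> simp]
    refine (Finset.sum_congr rfl fun t _ => ?_).trans h2
    rw [show (φ (x t)) ⊗ₜ[k] b t = φ (x t) • (Algebra.TensorProduct.basis S b) t by
        rw [Algebra.TensorProduct.basis_apply, smul_tmul', smul_eq_mul, mul_one],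
      map_smul, Module.Basis.constr_basis, smul_eq_mul, ← map_mul]
    rw [show x t ⊗ₜ[k] b t = x t • ((1 : R) ⊗ₜ[k] b t) by rw [smul_tmul', smul_eq_mul, mul_one], map_smul, smul_eq_mul]

include b in
/-- Bases exist near every prime. -/
theorem exists_isB (I : BrSev.SBSet k A c R) (q : PrimeSpectrum R) : ∃ g : R, g ∉ q.asIdeal ∧
    ∃ (m : ℕ) (v : Fin m → Localization.Away g ⊗[k] A),
      IsB (Module.Grassmannian.map (IsScalarTower.toAlgHom k R (Localization.Away g)) I.1).toSubmodule v := by
  classical
  let κ := q.asIdeal.ResidueField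
  let fκ := IsScalarTower.toAlgHom k R κ
  obtain ⟨x, hxS, hx⟩ := GrassLib.exists_isIn_of_span (R := k) b.span_eq (Module.Grassmannian.map fκ I.1)
  have hinj := GrassLib.injective_of_isIn hx
  choose τ hτ using hxS
  obtain ⟨g, hg, hgq⟩ : ∃ g ∈ GrassLib.obstr x I.1, g ∉ q.asIdeal := by
    by_contra hcon
    push Not at hcon
    have h1 := (GrassLib.isIn_map_iff fκ).1 hx
    have h2 : (GrassLib.obstr x I.1).map fκ.toRingHom ≤ ⊥ := Ideal.map_le_iff_le_comap.2 fun a ha => by
      show algebraMap R κ a ∈ (⊥ : Ideal κ)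
      rw [Ideal.mem_bot, Ideal.algebraMap_residueField_eq_zero]
      exact hcon a ha
    rw [h1] at h2
    exact (top_ne_bot : (⊤ : Ideal κ) ≠ ⊥) (le_bot_iff.1 h2)
  let L := Localization.Away g
  let fL := IsScalarTower.toAlgHom k R L
  have hIn : GrassLib.IsIn x (Module.Grassmannian.map fL I.1) := (GrassLib.isIn_map_iff fL).2
    ((Ideal.eq_top_iff_one _).2 (by
      have h3 : fL g ∈ (GrassLib.obstr x I.1).map fL.toRingHom := Ideal.mem_map_of_mem _ hg
      obtain ⟨u, hu⟩ := IsLocalization.Away.algebraMap_isUnit g (S := L)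
      have h4 := Ideal.mul_mem_left _ (↑u⁻¹ : L) h3
      rwa [show fL g = (u : L) from hu.symm, Units.inv_mul] at h4))
  refine ⟨g, hgq, Fintype.card {t : Fin N // t ∉ Set.range τ}, ?_⟩
  let e := (Fintype.equivFin {t : Fin N // t ∉ Set.range τ}).symm
  let co := GrassLib.coords hIn
  let P := Module.Grassmannian.map fL I.1
  let w := fun z : L ⊗[k] A => z - ∑ j, co z j • ((1 : L) ⊗ₜ[k] x j)
  let bL := Algebra.TensorProduct.basis L b
  have hmem : ∀ z, w z ∈ P.toSubmodule := fun z => by
    refine (Submodule.Quotient.mk_eq_zero _).1 ?_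
    have := GrassLib.psi_coords hIn z
    rw [GrassLib.psi_apply] at this
    simp only [w, Submodule.Quotient.mk_sub, sub_eq_zero]
    refine this.symm.trans ?_
    rw [← Submodule.mkQ_apply, map_sum]
    simp only [map_smul, co]
    rfl
  refine ⟨fun i => w (bL (e i).1), le_antisymm (Submodule.span_le.2 ?_) ?_, fun i => bL.coord (e i).1, fun i j => ?_⟩
  · rintro _ ⟨i, rfl⟩
    exact hmem _
  · intro z hz
    have hco : co z = 0 := by
      have : z ∈ co.ker := by rw [GrassLib.ker_coords hIn]; exact hz
      exact this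
    have key : ∀ t, w (bL t) ∈ Submodule.span L (Set.range fun i => w (bL (e i).1)) := fun t => by
      by_cases ht : t ∈ Set.range τ
      · obtain ⟨j, rfl⟩ := ht
        suffices h : w (bL (τ j)) = 0 by rw [h]; exact Submodule.zero_mem _
        have h1 : bL (τ j) = (1 : L) ⊗ₜ[k] x j := by rw [Algebra.TensorProduct.basis_apply, hτ]
        simp only [w, h1, co, GrassLib.coords_x hIn, Pi.single_apply, ite_smul, one_smul, zero_smul,
          Finset.sum_ite_eq', Finset.mem_univ, if_true, sub_self]
      · exact Submodule.subset_span ⟨e.symm ⟨t, ht⟩, by simp⟩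
    have hwz : z = ∑ t, bL.repr z t • w (bL t) := by
      have h1 : w z = z := by simp [w, hco]
      calc z = w z := h1.symm
        _ = w (∑ t, bL.repr z t • bL t) := by rw [bL.sum_repr]
        _ = _ := by
          simp only [w, map_sum, map_smul, Finset.sum_apply, Pi.smul_apply, smul_eq_mul, smul_sub,
            Finset.smul_sum, smul_smul, Finset.sum_sub_distrib, Finset.sum_smul]
          rw [Finset.sum_comm]
    rw [hwz]
    exact Submodule.sum_mem _ fun t _ => Submodule.smul_mem _ _ (key t)
  · have hx0 : ∀ l, bL.coord (e i).1 ((1 : L) ⊗ₜ[k] x l) = 0 := fun l => by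
      rw [← hτ l, ← Algebra.TensorProduct.basis_apply, Module.Basis.coord_apply, Module.Basis.repr_self,
        Finsupp.single_eq_of_ne fun h => (e i).2 ⟨l, h.symm⟩]
    simp only [w, map_sub, map_sum, map_smul, hx0, smul_zero, Finset.sum_const_zero, sub_zero,
      Module.Basis.coord_apply, Module.Basis.repr_self, Finsupp.single_apply]
    by_cases h : i = j
    · subst h; simp
    · rw [if_neg h, if_neg]
      exact fun h' => h (e.injective (Subtype.ext h'.symm))

end SBTaut
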