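import Groth.Agent.SBTautLib.Sheaf
import Groth.Agent.EtTwoLib.BasisHom
import Groth.Agent.KFlatLib.AffinePull
import Groth.Agent.DefClassLib.Basic
import Groth.Prelude.Def_KLin

/-! Functoriality of the tautological bundle and the action of the algebra on it. -/

set_option autoImplicit false
set_option linter.style.haveILetI false
set_option linter.unusedSectionVars false
universe u

noncomputable section

open CategoryTheory CategoryTheory.Limits AlgebraicGeometry TopologicalSpace Opposite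
open scoped TensorProduct
open FittLib (coord stdSec)
open KFlatLib (pb puSec puSecLE)

namespace SBTaut

variable {k : Type u} [Field k] {A : Type u} [Ring A] [Algebra k A] {c : ℕ} {N : ℕ} (b : Module.Basis (Fin N) k A)
  {X : Scheme.{u}} {f : X ⟶ Spec (CommRingCat.of k)} (σ : BrSev.SBStr k A c f)
  {T : Scheme.{u}} (g : T ⟶ X) {T' : Scheme.{u}} (h : T' ⟶ T)

/-- The pullback of a section of a free module. -/
def pullFree {V : T.Opens} {U : T'.Opens} (hU : U ≤ h ⁻¹ᵁ V) (a : Γ(FlatMod.freeMod T N, V)) :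
    Γ(FlatMod.freeMod T' N, U) :=
  (GrassSch.coordEquiv T' N U).symm fun i => h.appLE V U hU (coord a i)

theorem coord_pullFree {V : T.Opens} {U : T'.Opens} (hU : U ≤ h ⁻¹ᵁ V) (a : Γ(FlatMod.freeMod T N, V)) (i : Fin N) :
    coord (pullFree h hU a) i = h.appLE V U hU (coord a i) :=
  congrFun ((GrassSch.coordEquiv T' N U).apply_symm_apply _) i

theorem free_ext {V : T.Opens} {a a' : Γ(FlatMod.freeMod T N, V)} (he : ∀ i, coord a i = coord a' i) : a = a' :=
  (GrassSch.coordEquiv T N V).injective (funext he)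

theorem at'_pullFree {R : Type u} [CommRing R] [Algebra k R] (y : Spec (CommRingCat.of R) ⟶ T') {V : T.Opens}
    {U : T'.Opens} (hU : U ≤ h ⁻¹ᵁ V) (hy : ⊤ ≤ y ⁻¹ᵁ U) (a : Γ(FlatMod.freeMod T N, V)) :
    at' b y hy (pullFree h hU a) = at' b (y ≫ h) (hy.trans (y.preimage_mono hU)) a := by
  unfold at'
  congr 1
  funext i
  rw [coord_pullFree, ev_comp_hom]

theorem isPt_comp_hom {R : Type u} [CommRing R] [Algebra k R] {y : Spec (CommRingCat.of R) ⟶ T'}
    (hy : IsPt (f := f) (h ≫ g) y) : IsPt (f := f) g (y ≫ h) := by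
  unfold IsPt at hy ⊢
  rw [Category.assoc y h g]
  exact hy

theorem ideal_comp_hom {R : Type u} [CommRing R] [Algebra k R] (y : Spec (CommRingCat.of R) ⟶ T')
    (hy : IsPt (f := f) (h ≫ g) y) : ideal σ g (y ≫ h) (isPt_comp_hom g h hy) = ideal σ (h ≫ g) y hy := by
  unfold ideal
  rw [show (⟨(y ≫ h) ≫ g, isPt_comp_hom g h hy⟩ : BrSev.Pts f R) = ⟨y ≫ h ≫ g, hy⟩ from Subtype.ext (Category.assoc _ _ _)]

theorem pullFree_mem {V : T.Opens} {U : T'.Opens} (hU : U ≤ h ⁻¹ᵁ V) {a : Γ(FlatMod.freeMod T N, V)}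
    (ha : (taut b σ g).mem V a) : (taut b σ (h ≫ g)).mem U (pullFree h hU a) := fun R _ _ y hy hW => by
  rw [at'_pullFree, ← ideal_comp_hom σ g h y hy]
  exact ha R (y ≫ h) _ _

variable {b σ g}

theorem IsTF.pull {m : ℕ} {W : T.Opens} {s : Fin m → Γ(FlatMod.freeMod T N, W)} (hs : IsTF b σ g W s) :
    IsTF b σ (h ≫ g) (h ⁻¹ᵁ W) fun j => pullFree h le_rfl (s j) := fun R _ _ y hy hW => by
  simp only [at'_pullFree]
  rw [← ideal_comp_hom σ g h y hy]
  exact hs R (y ≫ h) (isPt_comp_hom g h hy) hW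

variable (b σ g)

theorem exists_compHom : ∃ Φ : Taut b σ g ⟶ (Scheme.Modules.pushforward h).obj (Taut b σ (h ≫ g)),
    ∀ (V : T.Opens) (a : Γ(Taut b σ g, V)), (taut b σ (h ≫ g)).ι.app (h ⁻¹ᵁ V) (Φ.app V a) =
      pullFree h le_rfl ((taut b σ g).ι.app V a) := by
  let φ := fun (V : T.Opens) (a : Γ(Taut b σ g, V)) =>
    ((taut b σ (h ≫ g)).lift (pullFree h le_rfl ((taut b σ g).ι.app V a))
      (pullFree_mem b σ g h le_rfl ((taut b σ g).ι_app_mem a)) : Γ(Taut b σ (h ≫ g), h ⁻¹ᵁ V))
  have hadd : ∀ V a a', φ V (a + a') = φ V a + φ V a' := fun V a a' => (taut b σ (h ≫ g)).ι_app_injective _ (by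
    refine Eq.trans ?_ (map_add ((taut b σ (h ≫ g)).ι.app (h ⁻¹ᵁ V)).hom _ _).symm
    show pullFree h le_rfl ((taut b σ g).ι.app V (a + a')) =
      pullFree h le_rfl ((taut b σ g).ι.app V a) + pullFree h le_rfl ((taut b σ g).ι.app V a')
    refine free_ext fun i => ?_
    rw [coord_add, coord_pullFree, coord_pullFree, coord_pullFree, map_add, coord_add, map_add])
  obtain ⟨Φ, hΦ⟩ := EtTwoLib.exists_hom_of_basis (E := Taut b σ g)
    (P := (Scheme.Modules.pushforward h).obj (Taut b σ (h ≫ g))) (fun V : T.Opens => V)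
    (by rw [Set.range_id']; exact Opens.isBasis_iff_nbhd.2 fun {U x} hx => ⟨U, trivial, hx, le_rfl⟩)
    (fun V => AddMonoidHom.mk' (φ V) (hadd V))
    (fun U V hle m => by
      refine (taut b σ (h ≫ g)).ι_app_injective _ ?_
      show (FlatMod.freeMod T' N).presheaf.map (homOfLE (h.preimage_mono hle)).op (pullFree h le_rfl _) =
        pullFree h le_rfl ((FlatMod.freeMod T N).presheaf.map (homOfLE hle).op _)
      refine free_ext fun i => ?_
      rw [GrassSch.coord_res, coord_pullFree, coord_pullFree, GrassSch.coord_res]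
      have h1 : h.appLE U (h ⁻¹ᵁ U) le_rfl ≫ T'.presheaf.map (homOfLE (h.preimage_mono hle)).op =
          T.presheaf.map (homOfLE hle).op ≫ h.appLE V (h ⁻¹ᵁ V) le_rfl := by
        rw [Scheme.Hom.appLE_map, Scheme.Hom.map_appLE]
      exact congr($h1 _))
    (fun U r m => by
      refine (taut b σ (h ≫ g)).ι_app_injective _ ?_
      show pullFree h le_rfl ((taut b σ g).ι.app U (r • m)) = h.app U r • pullFree h (le_rfl : h ⁻¹ᵁ U ≤ h ⁻¹ᵁ U) ((taut b σ g).ι.app U m)
      refine free_ext fun i => ?_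
      rw [coord_smul, coord_pullFree, coord_pullFree, Scheme.Modules.Hom.app_smul, coord_smul, map_mul]
      congr 1
      rw [Scheme.Hom.app_eq_appLE])
  exact ⟨Φ, fun V a => congrArg ((taut b σ (h ≫ g)).ι.app (h ⁻¹ᵁ V)) (hΦ V a)⟩

/-- The tautological bundle commutes with pullback. -/
theorem nonempty_pullIso : Nonempty (pb h (Taut b σ g) ≅ Taut b σ (h ≫ g)) := by
  obtain ⟨Φ, hΦ⟩ := exists_compHom b σ g h
  let η := ((Scheme.Modules.pullbackPushforwardAdjunction h).homEquiv _ _).symm Φ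
  have hη : ∀ (V : T.Opens) (m : Γ(Taut b σ g, V)), η.app (h ⁻¹ᵁ V) (puSec h m) = Φ.app V m := fun V m => by
    have h1 := congr($(((Scheme.Modules.pullbackPushforwardAdjunction h).homEquiv _ _).apply_symm_apply Φ).app V m)
    rwa [Adjunction.homEquiv_unit] at h1
  haveI : IsIso η := SeesawLib.isIso_of_bijAt η fun y => by
    obtain ⟨W, m, s, hyW, hs⟩ := exists_isTF b σ g (h y)
    have h1 := CohCmpLib.isFrame_puSecLE h hs.isFrame (V := h ⁻¹ᵁ W) le_rfl
    have h2 := (hs.pull h).isFrame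
    have h3 : ∀ j, η.app (h ⁻¹ᵁ W) (puSecLE h (Taut b σ g) le_rfl ((taut b σ g).lift (s j) (hs.mem j))) =
        (taut b σ (h ≫ g)).lift (pullFree h le_rfl (s j)) ((hs.pull h).mem j) := fun j => by
      have h4 : puSecLE h (Taut b σ g) (le_rfl : h ⁻¹ᵁ W ≤ h ⁻¹ᵁ W) ((taut b σ g).lift (s j) (hs.mem j)) =
          puSec h ((taut b σ g).lift (s j) (hs.mem j)) := by
        rw [KFlatLib.puSecLE_apply]
        exact congr($((pb h (Taut b σ g)).presheaf.map_id (op (h ⁻¹ᵁ W))) _)
      rw [h4, hη]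
      exact (taut b σ (h ≫ g)).ι_app_injective _ (hΦ W _)
    show Function.Bijective ((DerSch.stalkFunctor T' y).map η).hom
    let L := ((DerSch.stalkFunctor T' y).map η).hom
    have h5 : (Fintype.linearCombination (T'.presheaf.stalk y) fun j =>
        ProjFormLib.ger (Taut b σ (h ≫ g)) y (U := h ⁻¹ᵁ W) hyW
          ((taut b σ (h ≫ g)).lift (pullFree h le_rfl (s j)) ((hs.pull h).mem j))) =
        L.comp (Fintype.linearCombination (T'.presheaf.stalk y) fun j =>
          ProjFormLib.ger (pb h (Taut b σ g)) y (U := h ⁻¹ᵁ W) hyW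
            (puSecLE h (Taut b σ g) le_rfl ((taut b σ g).lift (s j) (hs.mem j)))) := by
      ext x
      simp only [Fintype.linearCombination_apply, LinearMap.comp_apply, map_sum, map_smul]
      refine Finset.sum_congr rfl fun j _ => congrArg (_ • ·) ?_
      rw [← h3 j]
      exact (ProjFormLib.ger_map η y (U := h ⁻¹ᵁ W) hyW _).symm
    refine (Function.Bijective.of_comp_iff L (h1 y hyW)).1 ?_
    rw [← LinearMap.coe_comp, ← h5]
    exact h2 y hyW
  exact ⟨asIso η⟩

section action

/-- The coefficients of left multiplication. -/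
def mulCoef (a : A) (i j : Fin N) : k := b.repr (a * b j) i

/-- Left multiplication on the coordinates. -/
def lmulSec (a : A) {V : T.Opens} (x : Γ(FlatMod.freeMod T N, V)) : Γ(FlatMod.freeMod T N, V) :=
  (GrassSch.coordEquiv T N V).symm fun i => ∑ j, cst (f := f) g V (mulCoef b a i j) * coord x j

theorem coord_lmulSec (a : A) {V : T.Opens} (x : Γ(FlatMod.freeMod T N, V)) (i : Fin N) :
    coord (lmulSec b (f := f) g a x) i = ∑ j, cst (f := f) g V (mulCoef b a i j) * coord x j :=
  congrFun ((GrassSch.coordEquiv T N V).apply_symm_apply _) i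

theorem at'_lmulSec (a : A) {R : Type u} [CommRing R] [Algebra k R] (y : Spec (CommRingCat.of R) ⟶ T)
    (hy : IsPt (f := f) g y) {V : T.Opens} (hW : ⊤ ≤ y ⁻¹ᵁ V) (x : Γ(FlatMod.freeMod T N, V)) :
    at' b y hW (lmulSec b (f := f) g a x) = ((1 : R) ⊗ₜ[k] a) * at' b y hW x := by
  have hc : ∀ i, ev y hW (coord (lmulSec b (f := f) g a x) i) =
      ∑ j, mulCoef b a i j • ev y hW (coord x j) := fun i => by
    rw [coord_lmulSec, map_sum]
    refine Finset.sum_congr rfl fun j _ => ?_
    rw [map_mul, ev_cst g y hy hW, Algebra.smul_def]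
  simp only [at', toT_apply, hc, Finset.mul_sum, Algebra.TensorProduct.tmul_mul_tmul, one_mul, TensorProduct.sum_tmul]
  rw [Finset.sum_comm]
  refine Finset.sum_congr rfl fun j _ => ?_
  conv_rhs => rw [← b.sum_repr (a * b j), TensorProduct.tmul_sum]
  refine Finset.sum_congr rfl fun i _ => ?_
  rw [TensorProduct.smul_tmul]
  rfl

theorem exists_act (a : A) : ∃ φ : Taut b σ g ⟶ Taut b σ g, ∀ (V : T.Opens) (x : Γ(Taut b σ g, V)),
    (taut b σ g).ι.app V (φ.app V x) = lmulSec b (f := f) g a ((taut b σ g).ι.app V x) := by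
  have hmem : ∀ (V : T.Opens) (x : Γ(Taut b σ g, V)),
      (taut b σ g).mem V (lmulSec b (f := f) g a ((taut b σ g).ι.app V x)) := fun V x R _ _ y hy hW => by
    rw [at'_lmulSec b g a y hy]
    exact (σ.bij R ⟨y ≫ g, hy⟩).2 _ _ ((taut b σ g).ι_app_mem x R y hy hW)
  obtain ⟨Φ, hΦ⟩ := EtTwoLib.exists_hom_of_basis (E := Taut b σ g) (P := Taut b σ g) (fun V : T.Opens => V)
    (by rw [Set.range_id']; exact Opens.isBasis_iff_nbhd.2 fun {U x} hx => ⟨U, trivial, hx, le_rfl⟩)
    (fun V => AddMonoidHom.mk' (fun x => (taut b σ g).lift _ (hmem V x)) fun x x' =>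
      (taut b σ g).ι_app_injective _ (by
        refine Eq.trans ?_ (map_add ((taut b σ g).ι.app V).hom _ _).symm
        show lmulSec b (f := f) g a ((taut b σ g).ι.app V (x + x')) =
          lmulSec b (f := f) g a ((taut b σ g).ι.app V x) + lmulSec b (f := f) g a ((taut b σ g).ι.app V x')
        rw [map_add]
        refine free_ext fun i => ?_
        simp [coord_add, coord_lmulSec, mul_add, Finset.sum_add_distrib]))
    (fun U V hle m => by
      refine (taut b σ g).ι_app_injective _ ?_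
      show (FlatMod.freeMod T N).presheaf.map (homOfLE hle).op (lmulSec b (f := f) g a _) =
        lmulSec b (f := f) g a ((FlatMod.freeMod T N).presheaf.map (homOfLE hle).op _)
      refine free_ext fun i => ?_
      rw [GrassSch.coord_res, coord_lmulSec, coord_lmulSec, map_sum]
      refine Finset.sum_congr rfl fun j _ => ?_
      rw [map_mul, GrassSch.coord_res]
      congr 1
      exact congr($(Scheme.Hom.appLE_map (g ≫ f) (le_top : U ≤ (g ≫ f) ⁻¹ᵁ ⊤) (homOfLE hle).op)
        ((Scheme.ΓSpecIso (CommRingCat.of k)).inv _)))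
    (fun U r m => by
      refine (taut b σ g).ι_app_injective _ ?_
      show lmulSec b (f := f) g a ((taut b σ g).ι.app U (r • m)) = r • lmulSec b (f := f) g a ((taut b σ g).ι.app U m)
      refine free_ext fun i => ?_
      rw [coord_smul, coord_lmulSec, coord_lmulSec, Scheme.Modules.Hom.app_smul, Finset.mul_sum]
      refine Finset.sum_congr rfl fun j _ => ?_
      rw [coord_smul]
      ring)
  exact ⟨Φ, fun V x => congrArg ((taut b σ g).ι.app V) (hΦ V x)⟩

/-- The action of an element of the algebra. -/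
def act (a : A) : End (Taut b σ g) := (exists_act b σ g a).choose

theorem act_spec (a : A) {R : Type u} [CommRing R] [Algebra k R] (y : Spec (CommRingCat.of R) ⟶ T)
    (hy : IsPt (f := f) g y) {V : T.Opens} (hW : ⊤ ≤ y ⁻¹ᵁ V) (x : Γ(Taut b σ g, V)) :
    at' b y hW ((taut b σ g).ι.app V ((act b σ g a : Taut b σ g ⟶ Taut b σ g).app V x)) =
      ((1 : R) ⊗ₜ[k] a) * at' b y hW ((taut b σ g).ι.app V x) := by
  rw [show act b σ g a = (exists_act b σ g a).choose from rfl, (exists_act b σ g a).choose_spec, at'_lmulSec b g a y hy]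

/-- Endomorphisms are determined at points. -/
theorem end_ext {φ ψ : Taut b σ g ⟶ Taut b σ g}
    (he : ∀ (R : Type u) [CommRing R] [Algebra k R] (y : Spec (CommRingCat.of R) ⟶ T) (_ : IsPt (f := f) g y)
      (V : T.Opens) (hW : ⊤ ≤ y ⁻¹ᵁ V) (x : Γ(Taut b σ g, V)),
      at' b y hW ((taut b σ g).ι.app V (φ.app V x)) = at' b y hW ((taut b σ g).ι.app V (ψ.app V x))) : φ = ψ := by
  refine DefClassLib.hom_ext_affines fun V x => (taut b σ g).ι_app_injective _ (free_ext fun i => ?_)
  obtain ⟨_, hy⟩ := exists_alg (f := f) g V.2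
  have h1 := congrFun ((toT_bijective b).1 (he Γ(T, V.1) V.2.fromSpec hy V.1 V.2.fromSpec_preimage_self.ge x)) i
  simp only [ev_fromSpec V.2] at h1
  exact h1

variable [T.Over (Spec (CommRingCat.of k))] (hT : T ↘ Spec (CommRingCat.of k) = g ≫ f)

include hT in
theorem smul_id_app (r : k) {V : T.Opens} (x : Γ(Taut b σ g, V)) :
    ((r • 𝟙 (Taut b σ g)) : Taut b σ g ⟶ Taut b σ g).app V x = cst (f := f) g V r • x := by
  rw [KLin.smul_app_apply]
  show _ • x = _
  congr 1
  show T.presheaf.map (homOfLE (le_top : V ≤ ⊤)).op ((T ↘ Spec (CommRingCat.of k)).appTop _) = _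
  rw [hT]
  simp [cst, Scheme.Hom.appLE]

/-- The algebra acts on the tautological bundle. -/
def actHom : A →ₐ[k] End (Taut b σ g) where
  toFun := act b σ g
  map_one' := end_ext b σ g fun R _ _ y hy V hW x => by
    rw [act_spec b σ g 1 y hy, ← Algebra.TensorProduct.one_def, one_mul]
    rfl
  map_mul' a a' := end_ext b σ g fun R _ _ y hy V hW x => by
    show _ = at' b y hW ((taut b σ g).ι.app V ((act b σ g a : Taut b σ g ⟶ Taut b σ g).app V ((act b σ g a' : Taut b σ g ⟶ Taut b σ g).app V x)))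
    rw [act_spec b σ g _ y hy, act_spec b σ g a y hy, act_spec b σ g a' y hy, ← mul_assoc,
      Algebra.TensorProduct.tmul_mul_tmul, one_mul]
  map_zero' := end_ext b σ g fun R _ _ y hy V hW x => by
    rw [act_spec b σ g 0 y hy, TensorProduct.tmul_zero, zero_mul]
    show 0 = at' b y hW ((taut b σ g).ι.app V ((0 : Taut b σ g ⟶ Taut b σ g).app V x))
    rw [show (0 : Taut b σ g ⟶ Taut b σ g).app V x = 0 from rfl, map_zero, at'_zero]
  map_add' a a' := end_ext b σ g fun R _ _ y hy V hW x => by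
    show _ = at' b y hW ((taut b σ g).ι.app V ((act b σ g a : Taut b σ g ⟶ Taut b σ g).app V x + (act b σ g a' : Taut b σ g ⟶ Taut b σ g).app V x))
    rw [map_add, at'_add, act_spec b σ g _ y hy, act_spec b σ g a y hy, act_spec b σ g a' y hy, TensorProduct.tmul_add, add_mul]
  commutes' r := end_ext b σ g fun R _ _ y hy V hW x => by
    rw [Algebra.algebraMap_eq_smul_one (A := End (Taut b σ g))]
    show _ = at' b y hW ((taut b σ g).ι.app V ((r • 𝟙 (Taut b σ g) : Taut b σ g ⟶ Taut b σ g).app V x))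
    rw [smul_id_app b σ g hT, Scheme.Modules.Hom.app_smul, at'_smul, ev_cst g y hy hW, act_spec b σ g _ y hy]
    rw [Algebra.algebraMap_eq_smul_one, TensorProduct.tmul_smul, ← Algebra.TensorProduct.one_def, smul_mul_assoc, one_mul,
      algebraMap_smul]

end action

end SBTaut
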