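import Groth.Agent.SBTautLib.Ideal
import Groth.Agent.GrassLib.SchExtPow
import Groth.Agent.QCohLib.LocSub
import Groth.Agent.CohCmpLib.FrameTools
import Groth.Agent.SeesawLib.StalkLocus
import Groth.Prelude.Def_BrSev2

/-! The tautological bundle of a Severi–Brauer scheme. -/

set_option autoImplicit false
set_option linter.style.haveILetI false
set_option linter.unusedSectionVars false
universe u

noncomputable section

open CategoryTheory CategoryTheory.Limits AlgebraicGeometry TopologicalSpace Opposite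
open scoped TensorProduct
open FittLib (coord stdSec)

namespace SBTaut

variable {k : Type u} [Field k] {A : Type u} [Ring A] [Algebra k A] {c : ℕ} {N : ℕ} (b : Module.Basis (Fin N) k A)
  {X : Scheme.{u}} {f : X ⟶ Spec (CommRingCat.of k)} (σ : BrSev.SBStr k A c f)
  {T : Scheme.{u}} (g : T ⟶ X)

section points

variable {R : Type u} [CommRing R]

/-- Evaluation at a point. -/
def ev (y : Spec (CommRingCat.of R) ⟶ T) {W : T.Opens} (hW : ⊤ ≤ y ⁻¹ᵁ W) : Γ(T, W) →+* R :=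
  (y.appLE W ⊤ hW ≫ (Scheme.ΓSpecIso (CommRingCat.of R)).hom).hom

theorem ev_res (y : Spec (CommRingCat.of R) ⟶ T) {W W' : T.Opens} (h : W' ≤ W) (hW' : ⊤ ≤ y ⁻¹ᵁ W') (r : Γ(T, W)) :
    ev y hW' (T.presheaf.map (homOfLE h).op r) = ev y (hW'.trans (y.preimage_mono h)) r := by
  have h1 : T.presheaf.map (homOfLE h).op ≫ y.appLE W' ⊤ hW' = y.appLE W ⊤ (hW'.trans (y.preimage_mono h)) :=
    Scheme.Hom.map_appLE y hW' (homOfLE h).op
  exact congr((Scheme.ΓSpecIso (CommRingCat.of R)).hom ($h1 r))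

theorem ev_comp {S : Type u} [CommRing S] (φ : R →+* S) (y : Spec (CommRingCat.of R) ⟶ T) {W : T.Opens}
    (hW : ⊤ ≤ y ⁻¹ᵁ W) (hW' : ⊤ ≤ (Spec.map (CommRingCat.ofHom φ) ≫ y) ⁻¹ᵁ W) (r : Γ(T, W)) :
    ev (Spec.map (CommRingCat.ofHom φ) ≫ y) hW' r = φ (ev y hW r) := by
  have h1 : (Spec.map (CommRingCat.ofHom φ) ≫ y).appLE W ⊤ hW' ≫ (Scheme.ΓSpecIso (CommRingCat.of S)).hom =
      (y.appLE W ⊤ hW ≫ (Scheme.ΓSpecIso (CommRingCat.of R)).hom) ≫ CommRingCat.ofHom φ := by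
    rw [← Scheme.Hom.appLE_comp_appLE _ _ W ⊤ ⊤ hW le_top, Category.assoc, Category.assoc,
      ← Scheme.ΓSpecIso_naturality]
    simp [Scheme.Hom.appLE, Scheme.Hom.appTop]
  exact congr($h1 r)

theorem ev_comp_hom {T' : Scheme.{u}} (h : T' ⟶ T) (y : Spec (CommRingCat.of R) ⟶ T') {W : T.Opens} {W' : T'.Opens}
    (hW' : W' ≤ h ⁻¹ᵁ W) (hy : ⊤ ≤ y ⁻¹ᵁ W') (r : Γ(T, W)) :
    ev y hy (h.appLE W W' hW' r) = ev (y ≫ h) (hy.trans (y.preimage_mono hW')) r := by
  have h1 : h.appLE W W' hW' ≫ y.appLE W' ⊤ hy = (y ≫ h).appLE W ⊤ (hy.trans (y.preimage_mono hW')) :=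
    Scheme.Hom.appLE_comp_appLE y h W W' ⊤ hW' hy
  exact congr((Scheme.ΓSpecIso (CommRingCat.of R)).hom ($h1 r))

/-- A point in an affine open is classified by evaluation. -/
theorem eq_specMap_fromSpec (y : Spec (CommRingCat.of R) ⟶ T) {V : T.Opens} (hV : IsAffineOpen V) (hy : ⊤ ≤ y ⁻¹ᵁ V) :
    Spec.map (CommRingCat.ofHom (ev y hy)) ≫ hV.fromSpec = y := by
  have h := IsAffineOpen.SpecMap_appLE_fromSpec y hV (isAffineOpen_top (Spec (CommRingCat.of R))) hy
  rw [IsAffineOpen.fromSpec_top] at h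
  rw [show CommRingCat.ofHom (ev y hy) = y.appLE V ⊤ hy ≫ (Scheme.ΓSpecIso (CommRingCat.of R)).hom from rfl,
    Spec.map_comp, Category.assoc, h, Scheme.isoSpec_Spec_inv, ← Category.assoc, ← Spec.map_comp, Iso.inv_hom_id,
    Spec.map_id, Category.id_comp]

theorem ev_fromSpec {V : T.Opens} (hV : IsAffineOpen V) (h : ⊤ ≤ hV.fromSpec ⁻¹ᵁ V) (r : Γ(T, V)) :
    ev (R := Γ(T, V)) hV.fromSpec h r = r := by
  have h1 : hV.fromSpec.appLE V ⊤ h ≫ (Scheme.ΓSpecIso Γ(T, V)).hom = 𝟙 _ := by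
    rw [Scheme.Hom.appLE, hV.fromSpec_app_self, Category.assoc, Category.assoc]
    rw [← Category.assoc ((Spec Γ(T, V)).presheaf.map _), ← Functor.map_comp]
    refine (congrArg (fun t => (Scheme.ΓSpecIso Γ(T, V)).inv ≫ (Spec Γ(T, V)).presheaf.map t ≫ _)
      (Subsingleton.elim _ (𝟙 _))).trans ?_
    rw [CategoryTheory.Functor.map_id, Category.id_comp, Iso.inv_hom_id]
  exact congr($h1 r)

variable [Algebra k R]

/-- The element of the algebra at a point. -/
def at' (y : Spec (CommRingCat.of R) ⟶ T) {W : T.Opens} (hW : ⊤ ≤ y ⁻¹ᵁ W) (a : Γ(FlatMod.freeMod T N, W)) :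
    R ⊗[k] A :=
  toT b fun i => ev y hW (coord a i)

theorem at'_res (y : Spec (CommRingCat.of R) ⟶ T) {W W' : T.Opens} (h : W' ≤ W) (hW' : ⊤ ≤ y ⁻¹ᵁ W')
    (a : Γ(FlatMod.freeMod T N, W)) :
    at' b y hW' ((FlatMod.freeMod T N).presheaf.map (homOfLE h).op a) = at' b y (hW'.trans (y.preimage_mono h)) a := by
  unfold at'
  congr 1
  funext i
  rw [GrassSch.coord_res, ev_res]

theorem coord_zero {W : T.Opens} (i : Fin N) : coord (0 : Γ(FlatMod.freeMod T N, W)) i = 0 :=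
  congrFun (map_zero (GrassSch.coordEquiv T N W)) i

theorem coord_add {W : T.Opens} (a a' : Γ(FlatMod.freeMod T N, W)) (i : Fin N) :
    coord (a + a') i = coord a i + coord a' i :=
  congrFun (map_add (GrassSch.coordEquiv T N W) a a') i

theorem coord_smul {W : T.Opens} (r : Γ(T, W)) (a : Γ(FlatMod.freeMod T N, W)) (i : Fin N) :
    coord (r • a) i = r * coord a i :=
  congrFun (map_smul (GrassSch.coordEquiv T N W) r a) i

theorem at'_zero (y : Spec (CommRingCat.of R) ⟶ T) {W : T.Opens} (hW : ⊤ ≤ y ⁻¹ᵁ W) :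
    at' b y hW 0 = 0 := by
  unfold at'
  simp only [coord_zero, map_zero]
  exact map_zero _

theorem at'_add (y : Spec (CommRingCat.of R) ⟶ T) {W : T.Opens} (hW : ⊤ ≤ y ⁻¹ᵁ W)
    (a a' : Γ(FlatMod.freeMod T N, W)) : at' b y hW (a + a') = at' b y hW a + at' b y hW a' := by
  unfold at'
  rw [← map_add]
  congr 1
  funext i
  simp [coord_add]

theorem at'_smul (y : Spec (CommRingCat.of R) ⟶ T) {W : T.Opens} (hW : ⊤ ≤ y ⁻¹ᵁ W) (r : Γ(T, W))
    (a : Γ(FlatMod.freeMod T N, W)) : at' b y hW (r • a) = ev y hW r • at' b y hW a := by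
  unfold at'
  rw [← map_smul]
  congr 1
  funext i
  simp [coord_smul]

theorem at'_comp {S : Type u} [CommRing S] [Algebra k S] (φ : R →ₐ[k] S) (y : Spec (CommRingCat.of R) ⟶ T)
    {W : T.Opens} (hW : ⊤ ≤ y ⁻¹ᵁ W) (hW' : ⊤ ≤ (Spec.map (CommRingCat.ofHom (φ : R →+* S)) ≫ y) ⁻¹ᵁ W)
    (a : Γ(FlatMod.freeMod T N, W)) :
    at' b (Spec.map (CommRingCat.ofHom (φ : R →+* S)) ≫ y) hW' a = GrassLib.mapM φ (at' b y hW a) := by
  rw [at', at', mapM_toT]
  congr 1
  funext i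
  exact ev_comp (φ : R →+* S) y hW hW' _

/-- A point of a scheme over the variety. -/
def IsPt (y : Spec (CommRingCat.of R) ⟶ T) : Prop :=
  (y ≫ g) ≫ f = Spec.map (CommRingCat.ofHom (algebraMap k R))

/-- The ideal of a point. -/
def ideal (y : Spec (CommRingCat.of R) ⟶ T) (hy : IsPt (f := f) g y) : Submodule R (R ⊗[k] A) :=
  idl (σ.bij R ⟨y ≫ g, hy⟩)

theorem isPt_comp {S : Type u} [CommRing S] [Algebra k S] (φ : R →ₐ[k] S) (y : Spec (CommRingCat.of R) ⟶ T)
    (hy : IsPt (f := f) g y) : IsPt (f := f) g (Spec.map (CommRingCat.ofHom (φ : R →+* S)) ≫ y) := by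
  unfold IsPt at hy ⊢
  rw [Category.assoc, Category.assoc, ← Category.assoc y g, hy, BrSev.specMap_comp_specMap_algebraMap]

theorem ideal_comp {S : Type u} [CommRing S] [Algebra k S] (φ : R →ₐ[k] S) (y : Spec (CommRingCat.of R) ⟶ T)
    (hy : IsPt (f := f) g y) :
    ideal σ g _ (isPt_comp g φ y hy) = (Module.Grassmannian.map φ (σ.bij R ⟨y ≫ g, hy⟩).1).toSubmodule := by
  rw [← σ.natural]
  have e : (⟨(Spec.map (CommRingCat.ofHom (φ : R →+* S)) ≫ y) ≫ g, isPt_comp g φ y hy⟩ : BrSev.Pts f S) =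
      BrSev.Pts.map f φ ⟨y ≫ g, hy⟩ := Subtype.ext (Category.assoc _ _ _)
  unfold ideal idl
  rw [e]

theorem ideal_congr {y y' : Spec (CommRingCat.of R) ⟶ T} (e : y = y') (hy : IsPt (f := f) g y) :
    ideal σ g y hy = ideal σ g y' (e ▸ hy) := by subst e; rfl

theorem at'_congr {y y' : Spec (CommRingCat.of R) ⟶ T} (e : y = y') {W : T.Opens} (hW : ⊤ ≤ y ⁻¹ᵁ W)
    (a : Γ(FlatMod.freeMod T N, W)) : at' b y hW a = at' b y' (e ▸ hW) a := by subst e; rfl

end points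

/-- The constants of the functions on an open. -/
def cst (V : T.Opens) : k →+* Γ(T, V) :=
  ((Scheme.ΓSpecIso (CommRingCat.of k)).inv ≫ (g ≫ f).appLE ⊤ V le_top).hom

theorem ev_cst {R : Type u} [CommRing R] [Algebra k R] (y : Spec (CommRingCat.of R) ⟶ T)
    (hy : IsPt (f := f) g y) {V : T.Opens} (hW : ⊤ ≤ y ⁻¹ᵁ V) (a : k) :
    ev y hW (cst (f := f) g V a) = algebraMap k R a := by
  have h1 : (g ≫ f).appLE ⊤ V le_top ≫ y.appLE V ⊤ hW = (y ≫ g ≫ f).appLE ⊤ ⊤ le_top :=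
    Scheme.Hom.appLE_comp_appLE y (g ≫ f) ⊤ V ⊤ le_top hW
  have e : y ≫ g ≫ f = Spec.map (CommRingCat.ofHom (algebraMap k R)) := (Category.assoc _ _ _).symm.trans hy
  have h3 : (y ≫ g ≫ f).appLE ⊤ ⊤ le_top =
      (Spec.map (CommRingCat.ofHom (algebraMap k R))).appTop := by
    generalize y ≫ g ≫ f = q at e
    subst e
    simp [Scheme.Hom.appLE, Scheme.Hom.appTop]
  have h2 : (Scheme.ΓSpecIso (CommRingCat.of k)).inv ≫ ((g ≫ f).appLE ⊤ V le_top ≫ y.appLE V ⊤ hW) ≫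
      (Scheme.ΓSpecIso (CommRingCat.of R)).hom = CommRingCat.ofHom (algebraMap k R) := by
    rw [h1, h3, ← Scheme.ΓSpecIso_inv_naturality_assoc, Iso.inv_hom_id, Category.comp_id]
  exact congr($h2 a)

theorem isPt_fromSpec {V : T.Opens} (hV : IsAffineOpen V) :
    letI := (cst (f := f) g V).toAlgebra
    IsPt (f := f) g (R := Γ(T, V)) hV.fromSpec := by
  letI := (cst (f := f) g V).toAlgebra
  show (hV.fromSpec ≫ g) ≫ f = _
  have h := IsAffineOpen.SpecMap_appLE_fromSpec (g ≫ f) (isAffineOpen_top (Spec (CommRingCat.of k))) hV le_top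
  rw [IsAffineOpen.fromSpec_top, Scheme.isoSpec_Spec_inv, ← Spec.map_comp] at h
  rw [Category.assoc, ← h]
  rfl

/-- The tautological subsheaf. -/
def taut : QCohLib.LocSub (FlatMod.freeMod T N) where
  mem W a := ∀ (R : Type u) [CommRing R] [Algebra k R] (y : Spec (CommRingCat.of R) ⟶ T)
    (hy : IsPt (f := f) g y) (hW : ⊤ ≤ y ⁻¹ᵁ W), at' b y hW a ∈ ideal σ g y hy
  zero W R _ _ y hy hW := by rw [at'_zero]; exact zero_mem _
  add ha hb R _ _ y hy hW := by rw [at'_add]; exact add_mem (ha R y hy hW) (hb R y hy hW)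
  smul r _ ha R _ _ y hy hW := by rw [at'_smul]; exact Submodule.smul_mem _ _ (ha R y hy hW)
  res {V W} h {a} ha R _ _ y hy hW := by rw [at'_res]; exact ha R y hy _
  local' {V} a h R _ _ y hy hW := by
    let x := at' b y hW a
    let J : Ideal R := Submodule.comap (LinearMap.toSpanSingleton R (R ⊗[k] A) x) (ideal σ g y hy)
    suffices hJ : J = ⊤ by
      have h1 : (1 : R) ∈ J := by rw [hJ]; trivial
      simpa [J] using h1
    by_contra hJ
    obtain ⟨m, hm, hJm⟩ := Ideal.exists_le_maximal J hJ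
    let q : PrimeSpectrum R := ⟨m, hm.isPrime⟩
    obtain ⟨W, hWV, hqW, hmem⟩ := h (y q) (hW trivial)
    obtain ⟨_, ⟨t, rfl⟩, hqt, htW⟩ := PrimeSpectrum.isTopologicalBasis_basic_opens.exists_subset_of_mem_open
      (show q ∈ (y ⁻¹ᵁ W : (Spec (CommRingCat.of R)).Opens).1 from hqW) (y ⁻¹ᵁ W).2
    let L := Localization.Away t
    let φ := IsScalarTower.toAlgHom k R L
    have hWL : ⊤ ≤ (Spec.map (CommRingCat.ofHom (φ : R →+* L)) ≫ y) ⁻¹ᵁ W := fun z _ => htW (by
      have hz : PrimeSpectrum.comap (algebraMap R L) z ∈ Set.range (PrimeSpectrum.comap (algebraMap R L)) := ⟨z, rfl⟩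
      rw [PrimeSpectrum.localization_away_comap_range L t] at hz
      exact hz)
    have h1 := hmem L _ (isPt_comp g φ y hy) hWL
    rw [at'_res, at'_comp b φ y hW, ideal_comp (hy := hy)] at h1
    obtain ⟨e, he⟩ := GrassLib.exists_pow_smul_mem (a := t) (σ.bij R ⟨y ≫ g, hy⟩).1 h1
    exact hqt (hm.isPrime.mem_of_pow_mem e (hJm he))

/-- The tautological module. -/
abbrev Taut : T.Modules := (taut b σ g).toModules

/-- Sections inducing bases of the ideals at all points of an open. -/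
def IsTF {m : ℕ} (W : T.Opens) (s : Fin m → Γ(FlatMod.freeMod T N, W)) : Prop :=
  ∀ (R : Type u) [CommRing R] [Algebra k R] (y : Spec (CommRingCat.of R) ⟶ T)
    (hy : IsPt (f := f) g y) (hW : ⊤ ≤ y ⁻¹ᵁ W), IsB (ideal σ g y hy) (fun j => at' b y hW (s j))

variable {b σ g}

theorem IsTF.mem {m : ℕ} {W : T.Opens} {s : Fin m → Γ(FlatMod.freeMod T N, W)} (hs : IsTF b σ g W s) (j : Fin m) :
    (taut b σ g).mem W (s j) := fun R _ _ y hy hW =>
  (hs R y hy hW).1.le (Submodule.subset_span ⟨j, rfl⟩)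

theorem IsTF.isFrame {m : ℕ} {W : T.Opens} {s : Fin m → Γ(FlatMod.freeMod T N, W)} (hs : IsTF b σ g W s) :
    ProjFormLib.IsFrame (Taut b σ g) fun j => (taut b σ g).lift (s j) (hs.mem j) := by
  refine GrassSch.isFrame_of_bijective fun V hV => ?_
  letI := (cst (f := f) g V.1).toAlgebra
  let y : Spec (CommRingCat.of Γ(T, V.1)) ⟶ T := V.2.fromSpec
  have hy : IsPt (f := f) g y := isPt_fromSpec g V.2
  have hW : ⊤ ≤ y ⁻¹ᵁ V.1 := V.2.fromSpec_preimage_self.ge
  have hB := hs Γ(T, V.1) y hy (hW.trans (y.preimage_mono hV))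
  have hat : ∀ x : Fin m → Γ(T, V.1),
      at' b y hW ((taut b σ g).ι.app V.1 (Fintype.linearCombination Γ(T, V.1)
        (fun i => AmpleLib.res (Taut b σ g) hV ((taut b σ g).lift (s i) (hs.mem i))) x)) =
      Fintype.linearCombination Γ(T, V.1) (fun j => at' b y (hW.trans (y.preimage_mono hV)) (s j)) x := by
    intro x
    rw [Fintype.linearCombination_apply, Fintype.linearCombination_apply, map_sum]
    let Φ : Γ(FlatMod.freeMod T N, V.1) →+ Γ(T, V.1) ⊗[k] A :=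
      AddMonoidHom.mk' (fun a => at' b y hW a) (at'_add b y hW)
    show Φ (∑ i, _) = _
    rw [map_sum]
    refine Finset.sum_congr rfl fun i _ => ?_
    show at' b y hW _ = _
    rw [Scheme.Modules.Hom.app_smul, at'_smul, ev_fromSpec V.2]
    exact congrArg (x i • ·) (at'_res b y hV hW (s i))
  have hinj : Function.Injective fun a : Γ(Taut b σ g, V.1) => at' b y hW ((taut b σ g).ι.app V.1 a) := by
    intro a a' h
    refine (taut b σ g).ι_app_injective V.1 ?_
    refine (GrassSch.coordEquiv T N V.1).injective (funext fun i => ?_)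
    have h' := congrFun ((toT_bijective b).1 h) i
    simp only [y, ev_fromSpec V.2] at h'
    exact h'
  refine ⟨fun x x' h => hB.injective ?_, fun a => ?_⟩
  · rw [← hat, ← hat, h]
  · obtain ⟨x, hx⟩ := (hB.mem_iff _).1 ((taut b σ g).ι_app_mem a Γ(T, V.1) y hy hW)
    exact ⟨x, hinj ((hat x).trans hx)⟩

/-- Points in an affine open factor through algebra maps. -/
theorem exists_algHom {R : Type u} [CommRing R] [Algebra k R] {V : T.Opens} (hV : IsAffineOpen V)
    [Algebra k Γ(T, V)] (hyV : IsPt (f := f) g (R := Γ(T, V)) hV.fromSpec) (y : Spec (CommRingCat.of R) ⟶ T)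
    (hy : IsPt (f := f) g y) (hW : ⊤ ≤ y ⁻¹ᵁ V) :
    ∃ ψ : Γ(T, V) →ₐ[k] R, (ψ : Γ(T, V) →+* R) = ev y hW ∧
      Spec.map (CommRingCat.ofHom (ψ : Γ(T, V) →+* R)) ≫ hV.fromSpec = y := by
  have he := eq_specMap_fromSpec y hV hW
  have h1 : (ev y hW).comp (algebraMap k Γ(T, V)) = algebraMap k R := by
    apply congrArg CommRingCat.Hom.hom (Spec.map_injective (a₁ := CommRingCat.ofHom ((ev y hW).comp (algebraMap k Γ(T, V))))
      (a₂ := CommRingCat.ofHom (algebraMap k R)) ?_)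
    rw [CommRingCat.ofHom_comp, Spec.map_comp, ← hy]
    conv_rhs => rw [← he]
    have h2 : (hV.fromSpec ≫ g) ≫ f = Spec.map (CommRingCat.ofHom (algebraMap k Γ(T, V))) := hyV
    rw [← h2]
    exact ((Category.assoc _ _ _).trans (congrArg (_ ≫ ·) (Category.assoc _ _ _).symm)).symm
  exact ⟨{ ev y hW with commutes' := fun r => congr($h1 r) }, rfl, he⟩

include b in
theorem isB_point {R S : Type u} [CommRing R] [Algebra k R] [CommRing S] [Algebra k S] {m : ℕ}
    {v : Fin m → R ⊗[k] A} (φ : R →ₐ[k] S) (y : Spec (CommRingCat.of R) ⟶ T) (hy : IsPt (f := f) g y)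
    (hv : IsB (ideal σ g y hy) v) (y' : Spec (CommRingCat.of S) ⟶ T)
    (e : Spec.map (CommRingCat.ofHom (φ : R →+* S)) ≫ y = y') (hy' : IsPt (f := f) g y') :
    IsB (ideal σ g y' hy') (fun j => GrassLib.mapM φ (v j)) := by
  subst e
  have hI : ideal σ g _ hy' = (Module.Grassmannian.map φ (σ.bij R ⟨y ≫ g, hy⟩).1).toSubmodule :=
    ideal_comp σ g φ y hy
  rw [hI]
  exact IsB.map b φ (I := σ.bij R ⟨y ≫ g, hy⟩) hv

theorem isB_point' {R S : Type u} [CommRing R] [Algebra k R] [CommRing S] [Algebra k S] {m : ℕ}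
    {v : Fin m → S ⊗[k] A} (φ : R →ₐ[k] S) (y : Spec (CommRingCat.of R) ⟶ T) (hy : IsPt (f := f) g y)
    (hv : IsB (Module.Grassmannian.map φ (σ.bij R ⟨y ≫ g, hy⟩).1).toSubmodule v) :
    IsB (ideal σ g _ (isPt_comp g φ y hy)) v := by
  rw [ideal_comp (hy := hy)]
  exact hv

/-- Frames from bases of the ideal of an affine open. -/
theorem isTF_of_affine {V : T.Opens} (hV : IsAffineOpen V) [Algebra k Γ(T, V)]
    (hyV : IsPt (f := f) g (R := Γ(T, V)) hV.fromSpec) {m : ℕ} {v : Fin m → Γ(T, V) ⊗[k] A}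
    (hv : IsB (ideal σ g hV.fromSpec hyV) v) (x : Fin m → Fin N → Γ(T, V)) (hx : ∀ j, toT b (x j) = v j) :
    IsTF b σ g V fun j => (GrassSch.coordEquiv T N V).symm (x j) := by
  intro R _ _ y hy hW
  obtain ⟨ψ, hψ, e⟩ := exists_algHom hV hyV y hy hW
  rw [← ideal_congr σ g e (isPt_comp g ψ _ hyV), ideal_comp (hy := hyV)]
  convert IsB.map b ψ (I := σ.bij Γ(T, V) ⟨hV.fromSpec ≫ g, hyV⟩) hv using 1
  funext j
  rw [← hx j, mapM_toT]
  show toT b (fun i => ev y hW (coord _ i)) = _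
  congr 1
  funext i
  rw [← hψ]
  exact congrArg ψ (congrFun ((GrassSch.coordEquiv T N V).apply_symm_apply (x j)) i)

variable (b σ g)

theorem exists_alg {V : T.Opens} (hV : IsAffineOpen V) :
    ∃ (_ : Algebra k Γ(T, V)), IsPt (f := f) g (R := Γ(T, V)) hV.fromSpec :=
  ⟨(cst (f := f) g V).toAlgebra, isPt_fromSpec g hV⟩

/-- Frames exist everywhere. -/
theorem exists_isTF (t : T) : ∃ (W : T.Opens) (m : ℕ) (s : Fin m → Γ(FlatMod.freeMod T N, W)), t ∈ W ∧ IsTF b σ g W s := by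
  obtain ⟨V, hV, htV, -⟩ := exists_isAffineOpen_mem_and_subset (show t ∈ (⊤ : T.Opens) from trivial)
  obtain ⟨_, hy⟩ := exists_alg (f := f) g hV
  obtain ⟨r, hrq, m, v, hv⟩ := exists_isB b (σ.bij Γ(T, V) ⟨hV.fromSpec ≫ g, hy⟩) (hV.primeIdealOf ⟨t, htV⟩)
  have hWa : IsAffineOpen (T.basicOpen r) := hV.basicOpen r
  have htW : t ∈ T.basicOpen r := by
    have h1 : hV.primeIdealOf ⟨t, htV⟩ ∈ PrimeSpectrum.basicOpen r := hrq
    rw [← hV.fromSpec_preimage_basicOpen] at h1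
    have h2 : hV.fromSpec (hV.primeIdealOf ⟨t, htV⟩) ∈ T.basicOpen r := h1
    rwa [hV.fromSpec_primeIdealOf] at h2
  obtain ⟨_, hyW⟩ := exists_alg (f := f) g hWa
  have hWV : ⊤ ≤ hWa.fromSpec ⁻¹ᵁ V := hWa.fromSpec_preimage_self.ge.trans (hWa.fromSpec.preimage_mono (T.basicOpen_le r))
  obtain ⟨res, hres, e⟩ := exists_algHom hV hy hWa.fromSpec hyW hWV
  have hres' : ∀ a, res a = T.presheaf.map (homOfLE (T.basicOpen_le r)).op a := fun a => by
    have h1 : res a = ev hWa.fromSpec hWV a := congr($hres a)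
    rw [h1, ← ev_res hWa.fromSpec (T.basicOpen_le r) hWa.fromSpec_preimage_self.ge a, ev_fromSpec hWa]
  let φ : Localization.Away r →ₐ[k] Γ(T, T.basicOpen r) := IsLocalization.liftAlgHom (M := Submonoid.powers r) (f := res) (by
    rintro ⟨_, e, rfl⟩
    show IsUnit (res (r ^ e))
    rw [map_pow, hres']
    exact (QCohLib.isUnit_res r le_rfl).pow e)
  have hφ : φ.comp (IsScalarTower.toAlgHom k Γ(T, V) (Localization.Away r)) = res :=
    AlgHom.ext fun a => IsLocalization.lift_eq _ a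
  let L := IsScalarTower.toAlgHom k Γ(T, V) (Localization.Away r)
  have hz : IsPt (f := f) g (Spec.map (CommRingCat.ofHom (L : Γ(T, V) →+* Localization.Away r)) ≫ hV.fromSpec) :=
    isPt_comp g L _ hy
  have hv' : IsB (ideal σ g _ hz) v := isB_point' L _ hy hv
  have e' : Spec.map (CommRingCat.ofHom (φ : Localization.Away r →+* Γ(T, T.basicOpen r))) ≫
      Spec.map (CommRingCat.ofHom (L : Γ(T, V) →+* Localization.Away r)) ≫ hV.fromSpec = hWa.fromSpec := by
    rw [← Category.assoc, ← Spec.map_comp, ← CommRingCat.ofHom_comp]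
    refine Eq.trans ?_ e
    rw [← hφ]
    rfl
  have hv'' : IsB (ideal σ g hWa.fromSpec hyW) (fun j => GrassLib.mapM φ (v j)) :=
    isB_point (b := b) φ _ hz hv' _ e' hyW
  choose x hx using fun j : Fin m => (toT_bijective b).2 (GrassLib.mapM φ (v j))
  exact ⟨_, m, _, htW, isTF_of_affine hWa hyW hv'' x hx⟩

/-- The tautological module is locally free. -/
theorem isFinLocFree_taut : FlatMod.IsFinLocFree (Taut b σ g) := fun t => by
  obtain ⟨W, m, s, ht, hs⟩ := exists_isTF b σ g t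
  obtain ⟨φ⟩ := CohCmpLib.exists_iso_freeMod_of_frame
    (CohCmpLib.isFrame_puSecLE W.ι hs.isFrame (V := (⊤ : (W : Scheme.{u}).Opens)) (fun z _ => z.2))
  exact ⟨W, m, ht, ⟨(Scheme.Modules.restrictFunctorIsoPullback W.ι).app (Taut b σ g) ≪≫ φ⟩⟩

end SBTaut
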